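import Groth.Agent.H1Sh.Max
import Groth.Agent.S1983

/-!
# Descending a solution from the unramified extensions
-/

set_option autoImplicit false

universe u

open IsLocalRing

namespace Groth.Agent.H1Sh

theorem comap_valuation_lt {K Ω : Type u} [Field K] [Field Ω] (O : ValuationSubring Ω) (f : K →+* Ω) {x : K}
    (hx : O.valuation (f x) < 1) : (O.comap f).valuation x < 1 :=
  (Groth.Agent.H1Ram.comap_valuation_lt_one O f x).2 hx

theorem dominates_self {K Ω : Type u} [Field K] [Field Ω] (O : ValuationSubring Ω) (f : K →+* Ω) :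
    EtRam.Dominates (O.comap f) (f.comp (O.comap f).subtype) O :=
  ⟨fun x => x.2, fun x hx => (Groth.Agent.H1Ram.comap_valuation_lt_one O f x).1 (((O.comap f).valuation_lt_one_iff x).1 hx)⟩

theorem isDVR_comap {k l Ω : Type u} [Field k] [Field l] [Field Ω] [Algebra k l] [FiniteDimensional k l]
    (O : ValuationSubring Ω) (g : k →+* Ω) [IsDiscreteValuationRing (O.comap g)] (h : l →+* Ω)
    (hgh : ∀ c, h (algebraMap k l c) = g c) : IsDiscreteValuationRing (O.comap h) :=
  (Groth.Agent.H1Ram.isDVR_of_dominates_finite (A := O.comap g) (K := k) (O.comap h)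
    ⟨fun c => by
      show h (algebraMap k l (c : k)) ∈ O
      rw [hgh]; exact c.2,
    fun c hc => by
      refine comap_valuation_lt O h ?_
      show O.valuation (h (algebraMap k l (c : k))) < 1
      rw [hgh]
      exact (dominates_self O g).2 c hc⟩).1

/-- A good extension makes every finite extension of the bottom field a solution. -/
theorem solution_of_goodExt {K₁ M1 : Type u} [Field K₁] [Field M1] [Algebra K₁ M1] (W : ValuationSubring M1)
    [IsDiscreteValuationRing W] [IsDiscreteValuationRing (W.comap (algebraMap K₁ M1))]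
    (h : H1Stab.GoodExt W (algebraMap K₁ M1)) (K₂ : Type u) [Field K₂] [Algebra K₁ K₂] [FiniteDimensional K₁ K₂] :
    EtRam.IsSolution W K₁ M1 K₂ := by
  letI : Algebra (W.comap (algebraMap K₁ M1)) W := (EtRam.inclOfComap W (algebraMap K₁ M1)).toAlgebra
  haveI : IsLocalHom (algebraMap (W.comap (algebraMap K₁ M1)) W) :=
    EtRam.isLocalHom_inclOfComap W (algebraMap K₁ M1)
  haveI : Algebra.IsGeometricallyReduced (ResidueField (W.comap (algebraMap K₁ M1))) (ResidueField W) := by
    have h2 := h.2
    convert h2 using 1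
    exact Algebra.algebra_ext _ _ fun z => by
      obtain ⟨a, rfl⟩ := residue_surjective z
      rfl
  letI : Algebra (W.comap (algebraMap K₁ M1)) M1 :=
    ((algebraMap K₁ M1).comp (W.comap (algebraMap K₁ M1)).subtype).toAlgebra
  haveI : IsScalarTower (W.comap (algebraMap K₁ M1)) K₁ M1 := IsScalarTower.of_algebraMap_eq fun _ => rfl
  haveI : IsScalarTower (W.comap (algebraMap K₁ M1)) W M1 := IsScalarTower.of_algebraMap_eq fun _ => rfl
  exact Groth.Agent.S1983.result (W.comap (algebraMap K₁ M1)) W K₁ M1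
    (fun a b hab => Subtype.ext ((algebraMap K₁ M1).injective (congrArg Subtype.val hab))) h.1 K₂

section

variable {K' L' Ω : Type u} [Field K'] [Field L'] [Field Ω] [Algebra K' L'] [Algebra K' Ω] [Algebra L' Ω]
  [IsScalarTower K' L' Ω] (O : ValuationSubring Ω)

/-- The solution, enlarged inside the big field. -/
theorem exists_good_enlargement [Algebra.IsAlgebraic L' Ω] [IsDiscreteValuationRing (O.comap (algebraMap K' Ω))]
    [IsDiscreteValuationRing (O.comap (algebraMap L' Ω))] (K₁ : Type u) [Field K₁] [Algebra K' K₁]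
    [FiniteDimensional K' K₁] (j : K₁ →ₐ[K'] Ω) (hsol : EtRam.IsSolution (O.comap (algebraMap L' Ω)) K' L' K₁)
    (K₂ : IntermediateField K' Ω) [FiniteDimensional K' K₂] (hjK₂ : ∀ y, j y ∈ K₂) :
    ∃ (M2 : Subfield Ω) (hle : K₂.toSubfield ≤ M2), (∀ y : L', algebraMap L' Ω y ∈ M2) ∧
      H1Stab.GoodExt (O.comap M2.subtype) (Subfield.inclusion hle) := by
  classical
  let bK := Module.finBasis K' K₁
  obtain ⟨M1, hM1⟩ : ∃ M1, M1 = IntermediateField.adjoin L' (Set.range fun i => j (bK i)) := ⟨_, rfl⟩
  haveI : FiniteDimensional L' M1 :=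
    hM1 ▸ IntermediateField.finiteDimensional_adjoin fun s _ => (Algebra.IsAlgebraic.isAlgebraic s).isIntegral
  have hjM1 : ∀ y, j y ∈ M1 := fun y => by
    rw [← bK.sum_repr y, map_sum]
    refine sum_mem fun i _ => ?_
    rw [map_smul, Algebra.smul_def, IsScalarTower.algebraMap_apply K' L' Ω]
    exact mul_mem (M1.algebraMap_mem _) (hM1 ▸ IntermediateField.subset_adjoin _ _ ⟨i, rfl⟩)
  have hM1' : M1 = IntermediateField.adjoin L' (Set.range j) := by
    refine le_antisymm ?_ ?_
    · rw [hM1, IntermediateField.adjoin_le_iff]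
      rintro _ ⟨i, rfl⟩
      exact IntermediateField.subset_adjoin _ _ ⟨_, rfl⟩
    · rw [IntermediateField.adjoin_le_iff]
      rintro _ ⟨y, rfl⟩
      exact hjM1 y
  let f1 : K₁ →+* M1 := j.toRingHom.codRestrict M1.toSubfield hjM1
  have h1 : H1Stab.GoodExt (O.comap M1.val.toRingHom) f1 :=
    solution_apply j hsol O (dominates_self O (algebraMap L' Ω)) M1 hM1' f1 fun _ => rfl
  letI : Algebra K₁ M1 := f1.toAlgebra
  haveI : IsDiscreteValuationRing (O.comap M1.val.toRingHom) :=
    isDVR_comap O (algebraMap L' Ω) M1.val.toRingHom fun _ => rfl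
  haveI : IsDiscreteValuationRing ((O.comap M1.val.toRingHom).comap (algebraMap K₁ M1)) :=
    isDVR_comap O (algebraMap K' Ω) (M1.val.toRingHom.comp (algebraMap K₁ M1)) fun c => j.commutes c
  letI : Algebra K₁ K₂ := (j.toRingHom.codRestrict K₂.toSubfield hjK₂).toAlgebra
  haveI : IsScalarTower K' K₁ K₂ :=
    IsScalarTower.of_algebraMap_eq fun c => Subtype.ext (j.commutes c).symm
  haveI : FiniteDimensional K₁ K₂ := Module.Finite.of_restrictScalars_finite K' K₁ K₂
  have hsol₂ : EtRam.IsSolution (O.comap M1.val.toRingHom) K₁ M1 K₂ :=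
    solution_of_goodExt (O.comap M1.val.toRingHom) h1 K₂
  letI : Algebra K₁ Ω := j.toRingHom.toAlgebra
  haveI : IsScalarTower K₁ M1 Ω := IsScalarTower.of_algebraMap_eq fun _ => rfl
  haveI : Algebra.IsAlgebraic M1 Ω := Algebra.IsAlgebraic.tower_top (K := L') M1
  let j2 : K₂ →ₐ[K₁] Ω := { K₂.val.toRingHom with commutes' := fun _ => rfl }
  obtain ⟨M2, hM2⟩ : ∃ M2, M2 = IntermediateField.adjoin M1 (Set.range j2) := ⟨_, rfl⟩
  have hK₂M2 : ∀ y : K₂, (y : Ω) ∈ M2 := fun y => hM2 ▸ IntermediateField.subset_adjoin _ _ ⟨y, rfl⟩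
  have hle : K₂.toSubfield ≤ M2.toSubfield := fun y hy => hK₂M2 ⟨y, hy⟩
  refine ⟨M2.toSubfield, hle, fun y => M2.algebraMap_mem (algebraMap L' M1 y), ?_⟩
  exact solution_apply j2 hsol₂ O (dominates_self O M1.val.toRingHom) M2 hM2 (Subfield.inclusion hle) fun _ => rfl

end

/-- From one good pair of subfields to all local extensions. -/
theorem solution_of_pair {B K L : Type u} [CommRing B] [IsDomain B] [IsDiscreteValuationRing B] [Field K] [Field L]
    [Algebra B L] [IsFractionRing B L] [Algebra K L] {Ω : Type u} [Field Ω] [IsAlgClosed Ω] [Algebra K Ω]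
    [Algebra L Ω] [IsScalarTower K L Ω] (O : ValuationSubring Ω)
    (hB : EtRam.Dominates B ((algebraMap L Ω).comp (algebraMap B L)) O) (N : IntermediateField K Ω)
    [FiniteDimensional K N] [Normal K N] (M2 : Subfield Ω) (hle : N.toSubfield ≤ M2)
    (hL : ∀ y : L, algebraMap L Ω y ∈ M2) (h : H1Stab.GoodExt (O.comap M2.subtype) (Subfield.inclusion hle)) :
    EtRam.IsSolution B K L N := by
  classical
  intro M _ _ _ _ _ _ hgen W hW
  haveI : FiniteDimensional L M := by
    have hfg : (Algebra.adjoin L (Set.range (algebraMap N M))).toSubmodule.FG := by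
      let bN := Module.finBasis K N
      have heq : Algebra.adjoin L (Set.range (algebraMap N M)) =
          Algebra.adjoin L (Set.range fun i => algebraMap N M (bN i)) := by
        refine le_antisymm (Algebra.adjoin_le ?_) (Algebra.adjoin_mono (by rintro _ ⟨i, rfl⟩; exact ⟨_, rfl⟩))
        rintro _ ⟨y, rfl⟩
        rw [← bN.sum_repr y, map_sum]
        refine sum_mem fun i _ => ?_
        rw [Algebra.smul_def, map_mul, ← IsScalarTower.algebraMap_apply, IsScalarTower.algebraMap_apply K L M]
        exact mul_mem (Subalgebra.algebraMap_mem _ _) (Algebra.subset_adjoin ⟨i, rfl⟩)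
      rw [heq]
      refine fg_adjoin_of_finite (Set.finite_range _) ?_
      rintro _ ⟨i, rfl⟩
      exact ((IsIntegral.of_finite K (bN i)).map (IsScalarTower.toAlgHom K N M)).tower_top
    rw [hgen, Algebra.top_toSubmodule] at hfg
    exact ⟨hfg⟩
  obtain ⟨e, he⟩ := exists_embedding O hB W hW
  let φ : N →ₐ[K] Ω := (e.restrictScalars K).comp (IsScalarTower.toAlgHom K N M)
  have hφN : φ.fieldRange = N := AlgHom.fieldRange_of_normal φ
  have hφmem : ∀ y, φ y ∈ N := fun y => hφN.le ⟨y, rfl⟩
  let τ : N →+* N := φ.toRingHom.codRestrict N.toSubfield hφmem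
  have hτ : Function.Bijective τ := by
    refine ⟨τ.injective, fun y => ?_⟩
    obtain ⟨z, hz⟩ := hφN.ge y.2
    exact ⟨z, Subtype.ext hz⟩
  let s : N ≃+* N := (RingEquiv.ofBijective τ hτ).symm
  refine H1Stab.goodExt_twist W _ s ?_
  have hes : ∀ y : N, e (algebraMap N M (s y)) = (y : Ω) := fun y =>
    congrArg Subtype.val ((RingEquiv.ofBijective τ hτ).apply_symm_apply y)
  let ML : IntermediateField L Ω := Subfield.toIntermediateField M2 hL
  have heM2 : ∀ y : M, e y ∈ M2 := by
    have hle' : Algebra.adjoin L (Set.range (algebraMap N M)) ≤ ML.toSubalgebra.comap e := by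
      refine Algebra.adjoin_le ?_
      rintro _ ⟨y, rfl⟩
      exact hle (hφmem y)
    intro y
    rw [hgen] at hle'
    exact hle' Algebra.mem_top
  let ψ : M →+* M2 := e.toRingHom.codRestrict M2 heM2
  have hψ : ψ.comp ((algebraMap N M).comp s.toRingHom) = Subfield.inclusion hle :=
    RingHom.ext fun y => Subtype.ext (hes y)
  have hWψ : (O.comap M2.subtype).comap ψ = W := by
    rw [← he]
    exact SetLike.ext fun _ => Iff.rfl
  exact ⟨Groth.Agent.H1Ram.weaklyUnramified_descend ψ hψ (O.comap M2.subtype) hWψ h.1,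
    Groth.Agent.H1Ram.geomReduced_descend ψ hψ (O.comap M2.subtype) hWψ h.2⟩

/-- The bottom: the compositum with the unramified constants is unramified over a finite extension. -/
theorem exists_unramified_base {A K : Type u} [CommRing A] [IsDomain A] [IsDiscreteValuationRing A] [Field K]
    [Algebra A K] [IsFractionRing A K] {Ω : Type u} [Field Ω] [Algebra K Ω] (O : ValuationSubring Ω)
    (hA : EtRam.Dominates A ((algebraMap K Ω).comp (algebraMap A K)) O) (K' : IntermediateField K Ω) (T : Set Ω)
    (hK' : K'.toSubfield = Subfield.closure (((algebraMap K Ω).fieldRange : Set Ω) ∪ T))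
    (hT : ∀ α ∈ T, Root O (algebraMap K Ω).fieldRange α) (S : Set Ω) (N : IntermediateField K Ω)
    [FiniteDimensional K N] (hN : N = IntermediateField.adjoin K S) :
    ∃ hle : N.toSubfield ≤ (IntermediateField.adjoin K' S).toSubfield, ∃ π, Disc O π N.toSubfield ∧
      Disc O π (IntermediateField.adjoin K' S).toSubfield ∧
      Sep O N.toSubfield (IntermediateField.adjoin K' S).toSubfield := by
  have hKN : (algebraMap K Ω).fieldRange ≤ N.toSubfield := by
    rintro _ ⟨c, rfl⟩
    exact N.algebraMap_mem c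
  have hNK₂ : N.toSubfield ≤ (IntermediateField.adjoin K' S).toSubfield := by
    rw [hN]
    refine Subfield.closure_le.2 ?_
    rintro z (⟨c, rfl⟩ | hz)
    · have h : algebraMap K Ω c ∈ K'.toSubfield := K'.algebraMap_mem c
      exact (IntermediateField.adjoin K' S).algebraMap_mem (⟨_, h⟩ : K')
    · exact IntermediateField.subset_adjoin _ _ hz
  haveI : IsDiscreteValuationRing (O.comap N.val.toRingHom) :=
    (Groth.Agent.H1Ram.isDVR_of_dominates_finite (A := A) (K := K) (O.comap N.val.toRingHom)
      ⟨fun c => hA.1 c, fun c hc => comap_valuation_lt O _ (hA.2 c hc)⟩).1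
  obtain ⟨p, hp⟩ := IsDiscreteValuationRing.exists_irreducible (O.comap N.val.toRingHom)
  have hd := disc_range (A := O.comap N.val.toRingHom) (K := N) O (dominates_self O N.val.toRingHom) hp
  have heq : (algebraMap N Ω).fieldRange = N.toSubfield :=
    by
      refine Subfield.ext fun y => ⟨?_, fun hy => RingHom.mem_fieldRange.2 ⟨⟨y, hy⟩, rfl⟩⟩
      rintro ⟨z, rfl⟩
      exact z.2
  rw [heq] at hd
  obtain ⟨hdF, hsepF⟩ := disc_sep_closure N.toSubfield hd T fun α hα => (hT α hα).mono O hKN
  have hF : Subfield.closure ((N.toSubfield : Set Ω) ∪ T) = (IntermediateField.adjoin K' S).toSubfield := by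
    refine le_antisymm (Subfield.closure_le.2 ?_) ?_
    · rintro y (hy | hy)
      · exact hNK₂ hy
      · have hy' : y ∈ K'.toSubfield := by rw [hK']; exact Subfield.subset_closure (Or.inr hy)
        exact (IntermediateField.adjoin K' S).algebraMap_mem (⟨y, hy'⟩ : K')
    · refine Subfield.closure_le.2 ?_
      rintro z (⟨c, rfl⟩ | hz)
      · have hc : (c : Ω) ∈ K'.toSubfield := c.2
        rw [hK'] at hc
        exact Subfield.closure_mono (Set.union_subset_union_left _ hKN) hc
      · exact Subfield.subset_closure (Or.inl (hN ▸ IntermediateField.subset_adjoin K S hz))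
  rw [hF] at hdF hsepF
  exact ⟨hNK₂, _, hd, hdF, hsepF⟩

theorem descend {A B K L : Type u} [CommRing A] [IsDomain A] [IsDiscreteValuationRing A]
    [CommRing B] [IsDomain B] [IsDiscreteValuationRing B]
    [Field K] [Field L] [Algebra A K] [IsFractionRing A K] [Algebra B L] [IsFractionRing B L] [Algebra K L]
    {Ω : Type u} [Field Ω] [IsAlgClosed Ω] [Algebra K Ω] [Algebra L Ω] [IsScalarTower K L Ω] [Algebra.IsAlgebraic L Ω]
    (O : ValuationSubring Ω) (hB : EtRam.Dominates B ((algebraMap L Ω).comp (algebraMap B L)) O)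
    (hA : EtRam.Dominates A ((algebraMap K Ω).comp (algebraMap A K)) O)
    (K' : IntermediateField K Ω) (T : Set Ω)
    (hK' : K'.toSubfield = Subfield.closure (((algebraMap K Ω).fieldRange : Set Ω) ∪ T))
    (hT : ∀ α ∈ T, Root O (algebraMap K Ω).fieldRange α) [Algebra.IsSeparable K K']
    (L' : IntermediateField L Ω) [Algebra K' L'] [IsScalarTower K' L' Ω]
    [IsDiscreteValuationRing (O.comap (algebraMap K' Ω))] [IsDiscreteValuationRing (O.comap (algebraMap L' Ω))]
    (K₁ : Type u) [Field K₁] [Algebra K' K₁] [FiniteDimensional K' K₁]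
    (hsol : EtRam.IsSolution (O.comap (algebraMap L' Ω)) K' L' K₁) :
    ∃ N : IntermediateField K Ω, FiniteDimensional K N ∧
      (Algebra.IsSeparable K' K₁ → Algebra.IsSeparable K N) ∧ EtRam.IsSolution B K L N := by
  classical
  let j : K₁ →ₐ[K'] Ω := IsAlgClosed.lift
  letI : Algebra K K₁ := ((algebraMap K' K₁).comp (algebraMap K K')).toAlgebra
  haveI : IsScalarTower K K' K₁ := IsScalarTower.of_algebraMap_eq fun _ => rfl
  haveI : Algebra.IsAlgebraic K K₁ := Algebra.IsAlgebraic.trans K K' K₁
  let bK := Module.finBasis K' K₁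
  let x : ULift.{u} (Fin (Module.finrank K' K₁)) → Ω := fun i => j (bK i.down)
  obtain ⟨S, hSf, hxS, hSint, hnor, hSsep⟩ := exists_normal_generators (K := K) x fun i =>
    (Algebra.IsAlgebraic.isAlgebraic (R := K) (bK i.down)).isIntegral.map (j.restrictScalars K)
  haveI := hSf.to_subtype
  obtain ⟨N, hN⟩ : ∃ N, N = IntermediateField.adjoin K S := ⟨_, rfl⟩
  haveI : Normal K N := hN ▸ hnor
  haveI hNfin : FiniteDimensional K N := hN ▸ IntermediateField.finiteDimensional_adjoin fun s hs => hSint s hs
  refine ⟨N, hNfin, fun hsep => ?_, ?_⟩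
  · haveI := hsep
    haveI : Algebra.IsSeparable K K₁ := Algebra.IsSeparable.trans K K' K₁
    rw [hN]
    refine (IntermediateField.isSeparable_adjoin_iff_isSeparable K Ω).2 fun s hs => hSsep (fun i => ?_) s hs
    exact IsSeparable.map (j.restrictScalars K) j.toRingHom.injective (Algebra.IsSeparable.isSeparable K (bK i.down))
  haveI : FiniteDimensional K' (IntermediateField.adjoin K' S) :=
    IntermediateField.finiteDimensional_adjoin fun s hs => (hSint s hs).tower_top
  have hjK₂ : ∀ y, j y ∈ IntermediateField.adjoin K' S := fun y => by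
    rw [← bK.sum_repr y, map_sum]
    refine sum_mem fun i _ => ?_
    rw [map_smul, Algebra.smul_def]
    exact mul_mem (IntermediateField.algebraMap_mem _ _) (IntermediateField.subset_adjoin _ _ (hxS ⟨i⟩))
  haveI : Algebra.IsAlgebraic L' Ω := Algebra.IsAlgebraic.tower_top (K := L) L'
  obtain ⟨M2, hle, hL'M2, hgood⟩ := exists_good_enlargement (L' := L') O K₁ j hsol _ hjK₂
  obtain ⟨hNK₂, π, hdN, hdF, hsepF⟩ := exists_unramified_base O hA K' T hK' hT S N hN
  have h3 := goodExt_trans O hNK₂ hdN hdF hsepF (O.comap M2.subtype) (Subfield.inclusion hle)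
    (SetLike.ext fun _ => Iff.rfl) hgood
  refine solution_of_pair O hB N M2 (hNK₂.trans hle) (fun y => ?_) h3
  rw [IsScalarTower.algebraMap_apply L L' Ω]
  exact hL'M2 _

end Groth.Agent.H1Sh
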