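import Groth.Agent.H1Sh.Descent
import Mathlib.FieldTheory.IsAlgClosed.AlgebraicClosure

/-!
# Strictly henselian type extensions reflecting solutions
-/

set_option autoImplicit false

universe u

open IsLocalRing

namespace Groth.Agent.H1Sh

theorem maxUnr_le {K L Ω : Type u} [Field K] [Field L] [Field Ω] [Algebra K L] [Algebra K Ω] [Algebra L Ω]
    [IsScalarTower K L Ω] (O : ValuationSubring Ω) : (maxUnr K O).toSubfield ≤ (maxUnr L O).toSubfield := by
  have h : (algebraMap K Ω).fieldRange ≤ (algebraMap L Ω).fieldRange := by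
    rintro _ ⟨c, rfl⟩
    exact ⟨algebraMap K L c, (IsScalarTower.algebraMap_apply K L Ω c).symm⟩
  rw [maxUnr_toSubfield, maxUnr_toSubfield]
  refine Subfield.closure_mono (Set.union_subset_union h ?_)
  exact fun α hα => hα.mono O h

theorem exists_extension (A B K L : Type u) [CommRing A] [IsDomain A]
    [IsDiscreteValuationRing A] [CommRing B] [IsDomain B] [IsDiscreteValuationRing B] [Algebra A B]
    (hinj : Function.Injective (algebraMap A B)) [IsLocalHom (algebraMap A B)]
    [Field K] [Field L] [Algebra A K] [IsFractionRing A K] [Algebra B L] [IsFractionRing B L]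
    [Algebra K L] [Algebra A L] [IsScalarTower A K L] [IsScalarTower A B L] :
    ∃ (A' B' K' L' : Type u) (_ : CommRing A') (_ : IsDomain A') (_ : IsDiscreteValuationRing A')
      (_ : CommRing B') (_ : IsDomain B') (_ : IsDiscreteValuationRing B') (_ : Field K') (_ : Field L')
      (_ : Algebra A A') (_ : Algebra B B') (_ : Algebra A' B') (_ : Algebra A B')
      (_ : IsScalarTower A B B') (_ : IsScalarTower A A' B')
      (_ : Algebra A' K') (_ : IsFractionRing A' K') (_ : Algebra B' L') (_ : IsFractionRing B' L')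
      (_ : Algebra K' L') (_ : Algebra A' L') (_ : IsScalarTower A' K' L') (_ : IsScalarTower A' B' L')
      (_ : Algebra K K') (_ : Algebra A K') (_ : IsScalarTower A K K') (_ : IsScalarTower A A' K')
      (_ : Algebra L L') (_ : Algebra B L') (_ : IsScalarTower B L L') (_ : IsScalarTower B B' L')
      (hA : IsLocalHom (algebraMap A A')) (hB : IsLocalHom (algebraMap B B')) (_ : IsLocalHom (algebraMap A' B')),
      Function.Injective (algebraMap A A') ∧ Function.Injective (algebraMap B B') ∧
      Function.Injective (algebraMap A' B') ∧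
      Algebra.IsSeparable K K' ∧ Algebra.IsSeparable L L' ∧
      (letI := (IsLocalRing.ResidueField.map (algebraMap A A')).toAlgebra
       IsSepClosure (IsLocalRing.ResidueField A) (IsLocalRing.ResidueField A')) ∧
      (letI := (IsLocalRing.ResidueField.map (algebraMap B B')).toAlgebra
       IsSepClosure (IsLocalRing.ResidueField B) (IsLocalRing.ResidueField B')) ∧
      ((∃ (K₁ : Type u) (_ : Field K₁) (_ : Algebra K' K₁), FiniteDimensional K' K₁ ∧ EtRam.IsSolution B' K' L' K₁) →
        ∃ (K₁ : Type u) (_ : Field K₁) (_ : Algebra K K₁), FiniteDimensional K K₁ ∧ EtRam.IsSolution B K L K₁) ∧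
      ((∃ (K₁ : Type u) (_ : Field K₁) (_ : Algebra K' K₁), FiniteDimensional K' K₁ ∧ Algebra.IsSeparable K' K₁ ∧
          EtRam.IsSolution B' K' L' K₁) →
        ∃ (K₁ : Type u) (_ : Field K₁) (_ : Algebra K K₁), FiniteDimensional K K₁ ∧ Algebra.IsSeparable K K₁ ∧
          EtRam.IsSolution B K L K₁) := by
  classical
  let Ω := AlgebraicClosure L
  haveI : IsScalarTower K L Ω := inferInstance
  obtain ⟨O, hOB⟩ := H1Ram.exists_dominates ((algebraMap L Ω).comp (algebraMap B L))
  have key : ∀ a : A, algebraMap K L (algebraMap A K a) = algebraMap B L (algebraMap A B a) := fun a => by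
    rw [← IsScalarTower.algebraMap_apply, ← IsScalarTower.algebraMap_apply]
  have hOA : EtRam.Dominates A ((algebraMap K Ω).comp (algebraMap A K)) O := by
    refine ⟨fun a => ?_, fun a ha => ?_⟩
    · rw [RingHom.comp_apply, IsScalarTower.algebraMap_apply K L Ω, key]; exact hOB.1 _
    · rw [RingHom.comp_apply, IsScalarTower.algebraMap_apply K L Ω, key]; exact hOB.2 _ fun hu => ha (isUnit_of_map_unit (algebraMap A B) a hu)
  obtain ⟨πA, hπA⟩ := IsDiscreteValuationRing.exists_irreducible A
  obtain ⟨πB, hπB⟩ := IsDiscreteValuationRing.exists_irreducible B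
  obtain ⟨hdK, -⟩ := disc_sep_maxUnr O (disc_range O hOA hπA)
  obtain ⟨hdL, -⟩ := disc_sep_maxUnr O (disc_range O hOB hπB)
  haveI hsK := isSeparable_maxUnr (K := K) O
  haveI hsL := isSeparable_maxUnr (K := L) O
  let A' := O.comap (maxUnr K O).val.toRingHom
  let B' := O.comap (maxUnr L O).val.toRingHom
  haveI : IsDiscreteValuationRing A' := hdK.isDVR
  haveI : IsDiscreteValuationRing B' := hdL.isDVR
  let i : maxUnr K O →+* maxUnr L O := Subfield.inclusion (maxUnr_le O)
  letI aKL : Algebra (maxUnr K O) (maxUnr L O) := i.toAlgebra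
  haveI : IsScalarTower (maxUnr K O) (maxUnr L O) Ω := IsScalarTower.of_algebraMap_eq fun _ => rfl
  let gA : A →+* maxUnr K O := (algebraMap K (maxUnr K O)).comp (algebraMap A K)
  let gB : B →+* maxUnr L O := (algebraMap L (maxUnr L O)).comp (algebraMap B L)
  letI aAA : Algebra A A' := (gA.codRestrict A'.toSubring fun a => hOA.1 a).toAlgebra
  letI aBB : Algebra B B' := (gB.codRestrict B'.toSubring fun b => hOB.1 b).toAlgebra
  letI aA'B' : Algebra A' B' := ((i.comp A'.subtype).codRestrict B'.toSubring fun x => x.2).toAlgebra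
  letI aAB' : Algebra A B' := ((algebraMap B B').comp (algebraMap A B)).toAlgebra
  haveI : IsScalarTower A B B' := IsScalarTower.of_algebraMap_eq fun _ => rfl
  haveI : IsScalarTower A A' B' := IsScalarTower.of_algebraMap_eq fun a => Subtype.ext (Subtype.ext (congrArg (algebraMap L Ω) (key a).symm))
  letI aA'L' : Algebra A' (maxUnr L O) := (i.comp A'.subtype).toAlgebra
  haveI : IsScalarTower A' (maxUnr K O) (maxUnr L O) := IsScalarTower.of_algebraMap_eq fun _ => rfl
  haveI : IsScalarTower A' B' (maxUnr L O) := IsScalarTower.of_algebraMap_eq fun _ => rfl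
  letI aAK' : Algebra A (maxUnr K O) := gA.toAlgebra
  haveI : IsScalarTower A K (maxUnr K O) := IsScalarTower.of_algebraMap_eq fun _ => rfl
  haveI : IsScalarTower A A' (maxUnr K O) := IsScalarTower.of_algebraMap_eq fun _ => rfl
  letI aBL' : Algebra B (maxUnr L O) := gB.toAlgebra
  haveI : IsScalarTower B L (maxUnr L O) := IsScalarTower.of_algebraMap_eq fun _ => rfl
  haveI : IsScalarTower B B' (maxUnr L O) := IsScalarTower.of_algebraMap_eq fun _ => rfl
  haveI hlA : IsLocalHom (algebraMap A A') := IsLocalHom.mk fun a ha => by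
    by_contra hu
    exact (hOA.2 a hu).ne ((O.valuation_eq_one_iff _).1 (ha.map (EtRam.inclOfComap O (maxUnr K O).val.toRingHom)))
  haveI hlB : IsLocalHom (algebraMap B B') := IsLocalHom.mk fun a ha => by
    by_contra hu
    exact (hOB.2 a hu).ne ((O.valuation_eq_one_iff _).1 (ha.map (EtRam.inclOfComap O (maxUnr L O).val.toRingHom)))
  haveI hlAB : IsLocalHom (algebraMap A' B') := IsLocalHom.mk fun a ha =>
    isUnit_of_map_unit (EtRam.inclOfComap O (maxUnr K O).val.toRingHom) a
      (ha.map (EtRam.inclOfComap O (maxUnr L O).val.toRingHom))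
  haveI : IsDiscreteValuationRing (O.comap (algebraMap (maxUnr K O) Ω)) := hdK.isDVR
  haveI : IsDiscreteValuationRing (O.comap (algebraMap (maxUnr L O) Ω)) := hdL.isDVR
  refine ⟨A', B', maxUnr K O, maxUnr L O, inferInstance, inferInstance, inferInstance, inferInstance, inferInstance,
    inferInstance, inferInstance, inferInstance, aAA, aBB, aA'B', aAB', inferInstance, inferInstance, inferInstance,
    inferInstance, inferInstance, inferInstance, aKL, aA'L', inferInstance, inferInstance, inferInstance, aAK',
    inferInstance, inferInstance, inferInstance, aBL', inferInstance, inferInstance, hlA, hlB, hlAB,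
    ?_, ?_, ?_, hsK, hsL, isSepClosure_maxUnr (A := A) O hOA fun _ => rfl,
    isSepClosure_maxUnr (A := B) O hOB fun _ => rfl, ?_, ?_⟩
  · intro a b h
    exact IsFractionRing.injective A K ((algebraMap K (maxUnr K O)).injective (congrArg Subtype.val h))
  · intro a b h
    exact IsFractionRing.injective B L ((algebraMap L (maxUnr L O)).injective (congrArg Subtype.val h))
  · intro a b h
    exact Subtype.ext (i.injective (congrArg Subtype.val h))
  · rintro ⟨K₁, hf, ha, hfin, hsol⟩
    obtain ⟨N, hN, -, hsolN⟩ := descend (A := A) (B := B) O hOB hOA (maxUnr K O) _ (maxUnr_toSubfield O) (fun _ h => h)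
      (maxUnr L O) K₁ hsol
    exact ⟨N, inferInstance, inferInstance, hN, hsolN⟩
  · rintro ⟨K₁, hf, ha, hfin, hsep, hsol⟩
    obtain ⟨N, hN, hNs, hsolN⟩ := descend (A := A) (B := B) O hOB hOA (maxUnr K O) _ (maxUnr_toSubfield O) (fun _ h => h)
      (maxUnr L O) K₁ hsol
    exact ⟨N, inferInstance, inferInstance, hN, hNs hsep, hsolN⟩

end Groth.Agent.H1Sh
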