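import Groth.Agent.H1Sh.Unr
import Groth.Agent.H1Stab.Deduce
import Groth.Agent.H1Ram.Descend
import Groth.Agent.FBaseLib.Reduced
import Groth.Agent.GrpSchLib.Reduced

/-!
# Good extensions over unramified ones
-/

set_option autoImplicit false

universe u

open IsLocalRing Polynomial TensorProduct

namespace Groth.Agent.H1Sh

/-- Separability seen inside a larger field. -/
theorem isSeparable_of_range {k k' Kb : Type u} [Field k] [Field k'] [Field Kb] [Algebra k k'] (j : k' →+* Kb)
    (S : Subfield Kb) (hS : S ≤ (j.comp (algebraMap k k')).fieldRange)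
    (hS' : (j.comp (algebraMap k k')).fieldRange ≤ S) (z : k') (h : IsSeparable S (j z)) : IsSeparable k z := by
  let r : k →+* S := (j.comp (algebraMap k k')).codRestrict S fun c => hS' ⟨c, rfl⟩
  have hr : Function.Surjective r := fun s => by
    obtain ⟨c, hc⟩ := hS s.2
    exact ⟨c, Subtype.ext hc⟩
  obtain ⟨P, hP⟩ := Polynomial.map_surjective r hr (minpoly S (j z))
  have hsep : P.Separable := (Polynomial.separable_map r).1 (hP ▸ h)
  have h0 : Polynomial.aeval z P = 0 := j.injective (by
    rw [map_zero, ← minpoly.aeval S (j z), ← hP, Polynomial.aeval_def, Polynomial.aeval_def, Polynomial.hom_eval₂,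
      Polynomial.eval₂_map]
    rfl)
  exact hsep.of_dvd (minpoly.dvd k z h0)

/-- Geometric reducedness goes up through a separable algebraic extension of the base. -/
theorem geomReduced_trans_separable (k k' E : Type u) [Field k] [Field k'] [CommRing E] [Algebra k k'] [Algebra k' E]
    [Algebra k E] [IsScalarTower k k' E] [Algebra.IsSeparable k k'] [Algebra.IsGeometricallyReduced k' E] :
    Algebra.IsGeometricallyReduced k E := by
  refine (Algebra.isGeometricallyReduced_field_iff k E).2 ?_
  haveI h1 : IsReduced (k' ⊗[k] AlgebraicClosure k) :=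
    haveI := GrpSchLib.isReduced_tensor_of_isSeparable k k' (AlgebraicClosure k)
    isReduced_of_injective (Algebra.TensorProduct.comm k k' (AlgebraicClosure k))
      (Algebra.TensorProduct.comm k k' (AlgebraicClosure k)).injective
  have h2 : IsReduced ((k' ⊗[k] AlgebraicClosure k) ⊗[k'] E) := FBaseLib.isReduced_tensor E (k' ⊗[k] AlgebraicClosure k)
  have h3 : IsReduced (E ⊗[k'] (k' ⊗[k] AlgebraicClosure k)) :=
    isReduced_of_injective (Algebra.TensorProduct.comm k' E (k' ⊗[k] AlgebraicClosure k))
      (Algebra.TensorProduct.comm k' E (k' ⊗[k] AlgebraicClosure k)).injective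
  have h4 : IsReduced (E ⊗[k] AlgebraicClosure k) :=
    isReduced_of_injective (Algebra.TensorProduct.cancelBaseChange k k' E E (AlgebraicClosure k)).symm
      (Algebra.TensorProduct.cancelBaseChange k k' E E (AlgebraicClosure k)).symm.injective
  exact isReduced_of_injective (Algebra.TensorProduct.comm k (AlgebraicClosure k) E)
    (Algebra.TensorProduct.comm k (AlgebraicClosure k) E).injective

theorem valuation_comap_lt_one {K M : Type u} [Field K] [Field M] {W : ValuationSubring M} {f : K →+* M}
    {x : W.comap f} : x ∈ maximalIdeal (W.comap f) ↔ W.valuation (f (x : K)) < 1 :=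
  ((W.comap f).valuation_lt_one_iff x).trans (Groth.Agent.H1Ram.comap_valuation_lt_one W f (x : K))

/-- A good extension of an unramified extension is good. -/
theorem goodExt_trans {Ω : Type u} [Field Ω] (O : ValuationSubring Ω) {π : Ω} {E F : Subfield Ω} (hEF : E ≤ F)
    (hE : Disc O π E) (hF : Disc O π F) (hsep : Sep O E F) {M : Type u} [Field M] (W : ValuationSubring M)
    (f : F →+* M) (hW : W.comap f = O.comap F.subtype) (h : H1Stab.GoodExt W f) :
    H1Stab.GoodExt W (f.comp (Subfield.inclusion hEF)) := by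
  let g : E →+* M := f.comp (Subfield.inclusion hEF)
  have hmem : ∀ y : F, ((y : Ω) ∈ O ↔ y ∈ W.comap f) := fun y => (SetLike.ext_iff.1 hW y).symm
  show H1Stab.GoodExt W g
  have hmemO : ∀ x : W.comap f, ((x : F) : Ω) ∈ O := fun x => hW.le x.2
  have hmem' : ∀ x : W.comap g, Subfield.inclusion hEF (x : E) ∈ W.comap f := fun x =>
    x.2
  let jF : W.comap f →+* O := (F.subtype.comp (W.comap f).subtype).codRestrict O.toSubring hmemO
  let iEF : W.comap g →+* W.comap f :=
    ((Subfield.inclusion hEF).comp (W.comap g).subtype).codRestrict (W.comap f).toSubring hmem'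
  have hiEF : (EtRam.inclOfComap W f).comp iEF = EtRam.inclOfComap W g :=
    RingHom.ext fun x => Subtype.ext rfl
  haveI : IsLocalHom jF := IsLocalHom.mk fun x hx => by
    obtain ⟨u, hu⟩ := hx.exists_right_inv
    have h1 : ((x : F) : Ω) * (u : Ω) = 1 := congrArg Subtype.val hu
    have hx0 : (x : F) ≠ 0 := fun h0 => by rw [h0, ZeroMemClass.coe_zero, zero_mul] at h1; exact zero_ne_one h1
    have hinv : (x : F)⁻¹ ∈ W.comap f := by
      refine (hmem _).1 ?_
      rw [Subfield.coe_inv, ← eq_inv_of_mul_eq_one_right h1]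
      exact u.2
    exact IsUnit.of_mul_eq_one ⟨_, hinv⟩ (Subtype.ext (mul_inv_cancel₀ hx0))
  haveI : IsLocalHom iEF := IsLocalHom.mk fun x hx => by
    have h1 := hx.map (EtRam.inclOfComap W f)
    rw [← RingHom.comp_apply, hiEF] at h1
    exact isUnit_of_map_unit (EtRam.inclOfComap W g) x h1
  obtain ⟨h1, h2⟩ := h
  letI : Algebra (W.comap g) W := (EtRam.inclOfComap W g).toAlgebra
  refine ⟨?_, ?_⟩
  · show Ideal.map (EtRam.inclOfComap W g) (maximalIdeal _) = maximalIdeal W
    refine le_antisymm ?_ fun y hy => ?_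
    · rw [Ideal.map_le_iff_le_comap]
      exact fun a ha hu => ha (isUnit_of_map_unit (EtRam.inclOfComap W g) a hu)
    · rw [← h1] at hy
      obtain ⟨b, hb, hby⟩ := Groth.Agent.H1Ram.exists_dvd_of_mem_map _ hy
      obtain ⟨c, hc⟩ : EtRam.inclOfComap W f b ∣ y := hby
      rcases eq_or_ne ((b : F) : Ω) 0 with h0 | h0
      · have : b = 0 := Subtype.ext (Subtype.ext h0)
        rw [hc, this, map_zero, zero_mul]; exact zero_mem _
      have hbO : O.valuation ((b : F) : Ω) < 1 := by
        refine (O.valuation_lt_one_iff (jF b)).1 fun hu => ?_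
        exact hb (isUnit_of_map_unit jF b hu)
      obtain ⟨n, hn⟩ := hF.le_one (b : F).2 h0 hbO.le
      obtain ⟨m, rfl⟩ : ∃ m, n = m + 1 := ⟨n - 1, by
        rcases n with _ | n
        · rw [hn, pow_zero] at hbO; exact absurd hbO (lt_irrefl _)
        · rfl⟩
      let w : E := ⟨π, hE.1⟩
      have hwmem : Subfield.inclusion hEF w ∈ W.comap f := (hmem _).1 ((O.valuation_le_one_iff _).1 hE.2.2.1.le)
      have hwW : w ∈ W.comap g := hwmem
      have hdivF : (b : F) / Subfield.inclusion hEF w ∈ W.comap f := (hmem _).1 (hF.div_mem (b : F).2 hbO)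
      have hwm : (⟨w, hwW⟩ : W.comap g) ∈ maximalIdeal (W.comap g) := fun hu => by
        have h3 := (hu.map iEF).map jF
        exact hE.2.2.1.ne ((O.valuation_eq_one_iff (jF (iEF ⟨w, hwW⟩))).1 h3)
      have hwF0 : Subfield.inclusion hEF w ≠ 0 := fun hw0 => hE.2.1 (congrArg (fun z : F => (z : Ω)) hw0)
      have heq : y = EtRam.inclOfComap W g ⟨w, hwW⟩ * (EtRam.inclOfComap W f ⟨_, hdivF⟩ * c) := by
        refine Subtype.ext ?_
        show (y : M) = g w * (f ((b : F) / Subfield.inclusion hEF w) * (c : M))
        rw [hc, RingHom.comp_apply, ← mul_assoc, ← map_mul, mul_div_cancel₀ _ hwF0]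
        rfl
      rw [heq]
      exact Ideal.mul_mem_right _ _ (Ideal.mem_map_of_mem _ hwm)
  · letI a1 : Algebra (ResidueField (W.comap g)) (ResidueField (W.comap f)) := (ResidueField.map iEF).toAlgebra
    letI a2 : Algebra (ResidueField (W.comap f)) (ResidueField W) := (ResidueField.map (EtRam.inclOfComap W f)).toAlgebra
    letI a3 : Algebra (ResidueField (W.comap g)) (ResidueField W) := (ResidueField.map (EtRam.inclOfComap W g)).toAlgebra
    haveI : Algebra.IsGeometricallyReduced (ResidueField (W.comap f)) (ResidueField W) := h2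
    haveI : IsScalarTower (ResidueField (W.comap g)) (ResidueField (W.comap f)) (ResidueField W) :=
      IsScalarTower.of_algebraMap_eq fun z => by
        obtain ⟨z, rfl⟩ := residue_surjective z
        simp only [RingHom.algebraMap_toAlgebra, ResidueField.map_residue]
        exact congrArg (residue W) (RingHom.congr_fun hiEF z).symm
    haveI : Algebra.IsSeparable (ResidueField (W.comap g)) (ResidueField (W.comap f)) := ⟨fun z => by
      refine isSeparable_of_range (ResidueField.map jF) (res O E) ?_ ?_ z (hsep _ ?_)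
      · intro y hy
        obtain ⟨x, hx, rfl⟩ := mem_res O hy
        have hxW : (⟨x, hx⟩ : E) ∈ W.comap g := (hmem (Subfield.inclusion hEF ⟨x, hx⟩)).1 x.2
        exact ⟨residue _ ⟨⟨x, hx⟩, hxW⟩, rfl⟩
      · rintro y ⟨w, rfl⟩
        obtain ⟨w, rfl⟩ := residue_surjective w
        exact residue_mem_res O (w : E).2
      · obtain ⟨x, rfl⟩ := residue_surjective z
        exact residue_mem_res O (x : F).2⟩
    exact geomReduced_trans_separable (ResidueField (W.comap g)) (ResidueField (W.comap f)) (ResidueField W)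

/-- A solution applied inside a big field. -/
theorem solution_apply {B K L K₁ Ω : Type u} [CommRing B] [IsLocalRing B] [Field K] [Field L] [Field K₁] [Field Ω]
    [Algebra K L] [Algebra K K₁] [Algebra B L] [Algebra K Ω] [Algebra L Ω] [IsScalarTower K L Ω]
    [Algebra.IsAlgebraic L Ω] (j : K₁ →ₐ[K] Ω) (hsol : EtRam.IsSolution B K L K₁) (O : ValuationSubring Ω)
    (hO : EtRam.Dominates B ((algebraMap L Ω).comp (algebraMap B L)) O) (M : IntermediateField L Ω)
    (hM : M = IntermediateField.adjoin L (Set.range j)) (f : K₁ →+* M) (hf : ∀ c, ((f c : M) : Ω) = j c) :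
    H1Stab.GoodExt (O.comap M.val.toRingHom) f := by
  letI : Algebra K₁ M := f.toAlgebra
  haveI : IsScalarTower K K₁ M := IsScalarTower.of_algebraMap_eq fun c => Subtype.ext (by
    show _ = ((f (algebraMap K K₁ c) : M) : Ω)
    rw [hf, AlgHom.commutes, IsScalarTower.algebraMap_apply K L Ω, IsScalarTower.algebraMap_apply K L M]
    rfl)
  have hgen : Algebra.adjoin L (Set.range (algebraMap K₁ M)) = ⊤ := by
    refine eq_top_iff.2 fun y _ => ?_
    have hy : (y : Ω) ∈ (IntermediateField.adjoin L (Set.range j)).toSubalgebra := by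
      rw [IntermediateField.mem_toSubalgebra, ← hM]; exact y.2
    rw [IntermediateField.adjoin_toSubalgebra_of_isAlgebraic (fun x _ => Algebra.IsAlgebraic.isAlgebraic x)] at hy
    have hr : Set.range j = M.val '' Set.range (algebraMap K₁ M) := by
      rw [← Set.range_comp]
      exact congrArg Set.range (funext fun c => (hf c).symm)
    rw [hr, ← AlgHom.map_adjoin] at hy
    obtain ⟨z, hz, hzy⟩ := hy
    exact Subtype.ext hzy ▸ hz
  refine hsol M hgen (O.comap M.val.toRingHom) ⟨fun b => hO.1 b, fun b hb => ?_⟩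
  exact (Groth.Agent.H1Ram.comap_valuation_lt_one O M.val.toRingHom _).2 (hO.2 b hb)

end Groth.Agent.H1Sh
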