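import Groth.Agent.H1Sh.Unr
import Groth.Agent.H1Sh.Place
import Groth.Agent.H1Stab.Valued
import Mathlib.FieldTheory.IsSepClosed
import Mathlib.FieldTheory.IsAlgClosed.Basic

/-!
# The largest unramified extension at a place, and embeddings respecting places
-/

set_option autoImplicit false

universe u

open IsLocalRing Polynomial

namespace Groth.Agent.H1Sh

section DVR

variable {A K Ω : Type u} [CommRing A] [IsDomain A] [IsDiscreteValuationRing A] [Field K] [Algebra A K]
  [IsFractionRing A K] [Field Ω] [Algebra K Ω] (O : ValuationSubring Ω)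

theorem valuation_unit {R : Type u} [CommRing R] [IsLocalRing R] (g : R →+* Ω) (hg : EtRam.Dominates R g O)
    {x : R} (hx : IsUnit x) : O.valuation (g x) = 1 :=
  (O.valuation_eq_one_iff _).1 (hx.map (g.codRestrict O.toSubring hg.1))

theorem disc_range (hA : EtRam.Dominates A ((algebraMap K Ω).comp (algebraMap A K)) O) {π : A} (hπ : Irreducible π) :
    Disc O (algebraMap K Ω (algebraMap A K π)) (algebraMap K Ω).fieldRange := by
  have hne : algebraMap K Ω (algebraMap A K π) ≠ 0 :=
    (_root_.map_ne_zero _).2 ((map_ne_zero_iff _ (IsFractionRing.injective A K)).2 hπ.ne_zero)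
  have hlt : O.valuation (algebraMap K Ω (algebraMap A K π)) < 1 := hA.2 π ((mem_maximalIdeal _).2 hπ.not_isUnit)
  refine ⟨⟨_, rfl⟩, hne, hlt, ?_⟩
  rintro _ ⟨x, rfl⟩ hx
  obtain ⟨a, s, hs, rfl⟩ := IsFractionRing.div_surjective (A := A) x
  have ha : a ≠ 0 := fun h => hx (by rw [h, map_zero, zero_div, map_zero])
  obtain ⟨n, u, hu⟩ := IsDiscreteValuationRing.eq_unit_mul_pow_irreducible ha hπ
  obtain ⟨m, w, hw⟩ := IsDiscreteValuationRing.eq_unit_mul_pow_irreducible (nonZeroDivisors.ne_zero hs) hπ
  refine ⟨(n : ℤ) - m, ?_⟩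
  have hval : ∀ (c : Aˣ) (k : ℕ), O.valuation (algebraMap K Ω (algebraMap A K ((c : A) * π ^ k))) =
      O.valuation (algebraMap K Ω (algebraMap A K π)) ^ k := fun c k => by
    rw [map_mul, map_mul, map_mul, map_pow, map_pow, map_pow]
    have := valuation_unit O ((algebraMap K Ω).comp (algebraMap A K)) hA c.isUnit
    rw [RingHom.comp_apply] at this
    rw [this, one_mul]
  rw [map_div₀, map_div₀, hu, hw, hval, hval, zpow_sub₀ (O.valuation.ne_zero_iff.2 hne), zpow_natCast, zpow_natCast]

theorem exists_of_mem (hA : EtRam.Dominates A ((algebraMap K Ω).comp (algebraMap A K)) O) (x : K)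
    (hx : algebraMap K Ω x ∈ O) : ∃ a : A, algebraMap A K a = x := by
  rcases ValuationRing.isInteger_or_isInteger A x with ⟨r, hr⟩ | ⟨r, hr⟩
  · exact ⟨r, hr⟩
  by_cases hu : IsUnit r
  · obtain ⟨u, rfl⟩ := hu
    exact ⟨↑u⁻¹, by rw [map_units_inv, hr, inv_inv]⟩
  rcases eq_or_ne x 0 with rfl | hx0
  · exact ⟨0, map_zero _⟩
  exfalso
  have h1 := hA.2 r ((mem_maximalIdeal r).2 hu)
  rw [RingHom.comp_apply, hr, map_inv₀, map_inv₀] at h1
  exact absurd ((O.valuation_le_one_iff _).2 hx)
    (not_le.2 ((inv_lt_one₀ (zero_lt_iff.2 (O.valuation.ne_zero_iff.2 ((_root_.map_ne_zero _).2 hx0)))).1 h1))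

variable (K) in
/-- Generated by all simple roots at the place. -/
noncomputable def maxUnr : IntermediateField K Ω :=
  IntermediateField.adjoin K {α | Root O (algebraMap K Ω).fieldRange α}

theorem maxUnr_toSubfield : (maxUnr K O).toSubfield =
    Subfield.closure (((algebraMap K Ω).fieldRange : Set Ω) ∪ {α | Root O (algebraMap K Ω).fieldRange α}) := by
  rw [RingHom.coe_fieldRange]
  rfl

theorem disc_sep_maxUnr {π : Ω} (hd : Disc O π (algebraMap K Ω).fieldRange) :
    Disc O π (maxUnr K O).toSubfield ∧ Sep O (algebraMap K Ω).fieldRange (maxUnr K O).toSubfield := by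
  rw [maxUnr_toSubfield]
  exact disc_sep_closure _ hd _ fun _ h => h

theorem isSeparable_maxUnr : Algebra.IsSeparable K (maxUnr K O) := by
  refine (IntermediateField.isSeparable_adjoin_iff_isSeparable K Ω).2 ?_
  rintro α ⟨f, hf, hc, hf0, hf1⟩
  obtain ⟨P, hP, -, hPm⟩ := Polynomial.lifts_and_degree_eq_and_monic (f := algebraMap K Ω) (p := f)
    ((Polynomial.lifts_iff_coeff_lifts _).2 fun i => (hc i).1) hf
  have h0 : Polynomial.aeval α P = 0 := by rw [Polynomial.aeval_def, ← Polynomial.eval_map, hP]; exact hf0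
  have hint : IsIntegral K α := ⟨P, hPm, h0⟩
  obtain ⟨h, hh⟩ := minpoly.dvd K α h0
  show (minpoly K α).Separable
  rw [Polynomial.separable_iff_derivative_ne_zero (minpoly.irreducible hint)]
  intro hd
  have h1 : Polynomial.aeval α P.derivative = 0 := by
    rw [hh, Polynomial.derivative_mul, hd, zero_mul, zero_add, map_mul, minpoly.aeval, zero_mul]
  rw [Polynomial.aeval_def, ← Polynomial.eval_map, ← Polynomial.derivative_map, hP] at h1
  rw [h1, map_zero] at hf1
  exact zero_ne_one hf1

/-- The residue field of the largest unramified extension is a separable closure. -/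
theorem isSepClosure_maxUnr [IsAlgClosed Ω] (hA : EtRam.Dominates A ((algebraMap K Ω).comp (algebraMap A K)) O)
    [Algebra A (O.comap (maxUnr K O).val.toRingHom)]
    (halg : ∀ a : A, (((algebraMap A (O.comap (maxUnr K O).val.toRingHom) a : O.comap (maxUnr K O).val.toRingHom) :
      maxUnr K O) : Ω) = algebraMap K Ω (algebraMap A K a))
    [IsLocalHom (algebraMap A (O.comap (maxUnr K O).val.toRingHom))] :
    letI := (IsLocalRing.ResidueField.map (algebraMap A (O.comap (maxUnr K O).val.toRingHom))).toAlgebra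
    IsSepClosure (ResidueField A) (ResidueField (O.comap (maxUnr K O).val.toRingHom)) := by
  obtain ⟨π, hπ⟩ := IsDiscreteValuationRing.exists_irreducible A
  obtain ⟨hd', hsep⟩ := disc_sep_maxUnr O (disc_range O hA hπ)
  obtain ⟨V, hV⟩ : ∃ V, V = O.comap (maxUnr K O).val.toRingHom := ⟨_, rfl⟩
  let j : O.comap (maxUnr K O).val.toRingHom →+* O := EtRam.inclOfComap O (maxUnr K O).val.toRingHom
  letI : Algebra (ResidueField A) (ResidueField (O.comap (maxUnr K O).val.toRingHom)) :=
    (ResidueField.map (algebraMap A (O.comap (maxUnr K O).val.toRingHom))).toAlgebra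
  let jκ : ResidueField (O.comap (maxUnr K O).val.toRingHom) →+* ResidueField O := ResidueField.map j
  have hjalg : ∀ a : A, ((j (algebraMap A _ a) : O) : Ω) = algebraMap K Ω (algebraMap A K a) := halg
  have hrange : ∀ z ∈ res O (algebraMap K Ω).fieldRange, ∃ c, jκ (algebraMap (ResidueField A) _ c) = z := by
    intro z hz
    obtain ⟨x, ⟨k, hk⟩, rfl⟩ := mem_res O hz
    obtain ⟨a, rfl⟩ := exists_of_mem O hA k (hk ▸ x.2)
    refine ⟨residue A a, ?_⟩
    show residue O (j (algebraMap A _ a)) = residue O x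
    exact congrArg (residue O) (Subtype.ext ((hjalg a).trans hk))
  have hrange' : ∀ c, jκ (algebraMap (ResidueField A) _ c) ∈ res O (algebraMap K Ω).fieldRange := by
    intro c
    obtain ⟨a, rfl⟩ := residue_surjective c
    exact residue_mem_res O ⟨algebraMap A K a, (hjalg a).symm⟩
  have hmem' : ∀ z, jκ z ∈ res O (maxUnr K O).toSubfield := by
    intro z
    obtain ⟨y, rfl⟩ := residue_surjective z
    exact residue_mem_res O (y : maxUnr K O).2
  haveI hS : Algebra.IsSeparable (ResidueField A) (ResidueField (O.comap (maxUnr K O).val.toRingHom)) := ⟨fun z =>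
    isSeparable_of_range jκ (res O (algebraMap K Ω).fieldRange) (fun z hz => hrange z hz)
      (fun _ ⟨c, hc⟩ => hc ▸ hrange' c) z (hsep _ (hmem' z))⟩
  refine ⟨IsSepClosed.of_exists_root _ fun p hpm hirr hpsep => ?_, hS⟩
  haveI := H1Stab.isAlgClosed_residueField O
  obtain ⟨ρ, hρ⟩ := IsAlgClosed.exists_root (p.map jκ) (by
    rw [Polynomial.degree_map]; exact (Polynomial.degree_pos_of_irreducible hirr).ne')
  letI : Algebra (ResidueField (O.comap (maxUnr K O).val.toRingHom)) (ResidueField O) := jκ.toAlgebra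
  letI : Algebra (ResidueField A) (ResidueField O) :=
    (jκ.comp (algebraMap (ResidueField A) (ResidueField (O.comap (maxUnr K O).val.toRingHom)))).toAlgebra
  haveI : IsScalarTower (ResidueField A) (ResidueField (O.comap (maxUnr K O).val.toRingHom)) (ResidueField O) :=
    IsScalarTower.of_algebraMap_eq fun _ => rfl
  have hρsep : IsSeparable (ResidueField A) ρ := by
    refine IsSeparable.of_algebra_isSeparable_of_isSeparable (E := ResidueField (O.comap (maxUnr K O).val.toRingHom)) _ ?_
    refine hpsep.of_dvd (minpoly.dvd _ _ ?_)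
    rw [Polynomial.aeval_def, ← Polynomial.eval_map]
    exact hρ
  obtain ⟨f, hf, hfd, hfm⟩ := Polynomial.lifts_and_degree_eq_and_monic (f := residue A) (p := minpoly (ResidueField A) ρ)
    ((Polynomial.lifts_iff_coeff_lifts _).2 fun i => residue_surjective _) (minpoly.monic hρsep.isIntegral)
  let gA : A →+* O := j.comp (algebraMap A _)
  have hfO : (f.map gA).Monic := hfm.map _
  have hred : (f.map gA).map (residue O) = (minpoly (ResidueField A) ρ).map (algebraMap (ResidueField A) (ResidueField O)) := by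
    rw [← hf, Polynomial.map_map, Polynomial.map_map]
    rfl
  have hsplit : ((f.map gA).map O.subtype).Splits := IsAlgClosed.splits _
  obtain ⟨rts, hrts⟩ : ∃ rts : Multiset O, f.map gA = (rts.map fun r => X - C r).prod := by
    have hint : ∀ α ∈ ((f.map gA).map O.subtype).roots, α ∈ O := by
      intro α hα
      have : IsIntegral O α := ⟨f.map gA, hfO, by
        rw [← Polynomial.eval_map]; exact (Polynomial.mem_roots'.1 hα).2⟩
      obtain ⟨y, hy⟩ := IsIntegrallyClosed.isIntegral_iff.1 this
      exact hy ▸ y.2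
    refine ⟨((f.map gA).map O.subtype).roots.attach.map fun α => ⟨α.1, hint α.1 α.2⟩, ?_⟩
    refine Polynomial.map_injective O.subtype Subtype.val_injective ?_
    rw [Polynomial.map_multiset_prod, Multiset.map_map, Multiset.map_map]
    conv_lhs => rw [hsplit.eq_prod_roots_of_monic (hfO.map _), ← Multiset.attach_map_val (((f.map gA).map O.subtype).roots),
      Multiset.map_map]
    congr 1
    refine Multiset.map_congr rfl fun α _ => ?_
    simp
  have hρ0 : ((rts.map fun r => X - C r).prod.map (residue O)).eval ρ = 0 := by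
    rw [← hrts, hred, Polynomial.eval_map]; exact minpoly.aeval _ ρ
  rw [Polynomial.map_multiset_prod, Polynomial.eval_multiset_prod, Multiset.map_map, Multiset.map_map,
    Multiset.prod_eq_zero_iff, Multiset.mem_map] at hρ0
  obtain ⟨r, hr, hr0⟩ := hρ0
  simp only [Function.comp_apply, Polynomial.map_sub, Polynomial.map_X, Polynomial.map_C, Polynomial.eval_sub,
    Polynomial.eval_X, Polynomial.eval_C, sub_eq_zero] at hr0
  have hα : Root O (algebraMap K Ω).fieldRange (r : Ω) := by
    refine ⟨(f.map gA).map O.subtype, hfO.map _, fun i => ?_, ?_, ?_⟩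
    · rw [Polynomial.coeff_map, Polynomial.coeff_map]
      exact ⟨⟨algebraMap A K (f.coeff i), (hjalg _).symm⟩, SetLike.coe_mem _⟩
    · have h1 : (f.map gA).eval r = 0 := by
        rw [hrts, Polynomial.eval_multiset_prod, Multiset.map_map, Multiset.prod_eq_zero_iff, Multiset.mem_map]
        exact ⟨r, hr, by simp⟩
      rw [show (r : Ω) = O.subtype r from rfl, Polynomial.eval_map_apply, h1, map_zero]
    · rw [Polynomial.derivative_map, show (r : Ω) = O.subtype r from rfl, Polynomial.eval_map_apply]
      refine (O.valuation_eq_one_iff _).1 ((residue_ne_zero_iff_isUnit _).1 ?_)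
      rw [← Polynomial.eval_map_apply, ← Polynomial.derivative_map, hred, ← hr0, Polynomial.derivative_map,
        Polynomial.eval_map, ← Polynomial.aeval_def]
      exact fun h0 => by
        obtain ⟨a, b, hab⟩ := hρsep
        have := congrArg (Polynomial.aeval ρ) hab
        rw [map_add, map_mul, map_mul, minpoly.aeval, h0, mul_zero, mul_zero, add_zero, map_one] at this
        exact zero_ne_one this
  have hrmem : (r : Ω) ∈ maxUnr K O := IntermediateField.subset_adjoin K _ hα
  refine ⟨residue _ (⟨⟨_, hrmem⟩, r.2⟩ : O.comap (maxUnr K O).val.toRingHom), jκ.injective ?_⟩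
  rw [map_zero, ← Polynomial.eval_map_apply]
  rw [show jκ (residue _ (⟨⟨_, hrmem⟩, r.2⟩ : O.comap (maxUnr K O).val.toRingHom)) = ρ from hr0.symm]
  exact hρ

end DVR

/-- A finite normal extension containing finitely many elements, generated by conjugates. -/
theorem exists_normal_generators {K Ω : Type u} [Field K] [Field Ω] [IsAlgClosed Ω] [Algebra K Ω] {ι : Type u}
    [Fintype ι] (x : ι → Ω) (hx : ∀ i, IsIntegral K (x i)) :
    ∃ S : Set Ω, S.Finite ∧ (∀ i, x i ∈ S) ∧ (∀ s ∈ S, IsIntegral K s) ∧ Normal K (IntermediateField.adjoin K S) ∧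
      ((∀ i, IsSeparable K (x i)) → ∀ s ∈ S, IsSeparable K s) := by
  classical
  let P : K[X] := ∏ i, minpoly K (x i)
  have hP : P ≠ 0 := Finset.prod_ne_zero_iff.2 fun i _ => minpoly.ne_zero (hx i)
  have hroot : ∀ s ∈ P.rootSet Ω, ∃ i, Polynomial.aeval s (minpoly K (x i)) = 0 := by
    intro s hs
    have h := (Polynomial.mem_rootSet.1 hs).2
    rw [map_prod, Finset.prod_eq_zero_iff] at h
    obtain ⟨i, -, hi⟩ := h
    exact ⟨i, hi⟩
  refine ⟨P.rootSet Ω, Polynomial.rootSet_finite _ _, fun i => ?_, fun s hs => ?_, ?_, fun hsep s hs => ?_⟩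
  · refine Polynomial.mem_rootSet.2 ⟨hP, ?_⟩
    rw [map_prod]
    exact Finset.prod_eq_zero (Finset.mem_univ i) (minpoly.aeval _ _)
  · obtain ⟨i, hi⟩ := hroot s hs
    exact ⟨minpoly K (x i), minpoly.monic (hx i), hi⟩
  · haveI := IntermediateField.adjoin_rootSet_isSplittingField (K := K) (L := Ω) (p := P) (IsAlgClosed.splits _)
    exact Normal.of_isSplittingField P
  · obtain ⟨i, hi⟩ := hroot s hs
    exact (hsep i).of_dvd (minpoly.dvd K s hi)

/-- An embedding of a finite extension respecting the places. -/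
theorem exists_embedding {B L Ω M : Type u} [CommRing B] [IsDomain B] [IsDiscreteValuationRing B] [Field L]
    [Algebra B L] [IsFractionRing B L] [Field Ω] [IsAlgClosed Ω] [Algebra L Ω] (O : ValuationSubring Ω)
    (hO : EtRam.Dominates B ((algebraMap L Ω).comp (algebraMap B L)) O) [Field M] [Algebra L M] [FiniteDimensional L M]
    (W : ValuationSubring M) (hW : EtRam.Dominates B ((algebraMap L M).comp (algebraMap B L)) W) :
    ∃ e : M →ₐ[L] Ω, O.comap e.toRingHom = W := by
  classical
  let e0 : M →ₐ[L] Ω := IsAlgClosed.lift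
  let b := Module.finBasis L M
  obtain ⟨S, hSf, hxS, hSint, hnor, -⟩ := exists_normal_generators (K := L)
    (fun i : ULift.{u} (Fin (Module.finrank L M)) => e0 (b i.down)) fun i => (IsIntegral.of_finite L _).map e0
  let E := IntermediateField.adjoin L S
  haveI : Normal L E := hnor
  haveI := hSf.to_subtype
  haveI : FiniteDimensional L E := IntermediateField.finiteDimensional_adjoin fun s hs => hSint s hs
  have hE : ∀ y, e0 y ∈ E := fun y => by
    rw [← b.sum_repr y, map_sum]
    refine sum_mem fun i _ => ?_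
    rw [map_smul, Algebra.smul_def]
    exact mul_mem (E.algebraMap_mem _) (IntermediateField.subset_adjoin L S (hxS ⟨i⟩))
  let e1 : M →ₐ[L] E := e0.codRestrict E.toSubalgebra hE
  obtain ⟨V, hV⟩ := H1Ram.exists_dominates (e1.toRingHom.comp W.subtype)
  have hVW : V.comap e1.toRingHom = W := by
    refine SetLike.ext fun y => ⟨fun hy => ?_, fun hy => hV.1 ⟨y, hy⟩⟩
    by_contra hyW
    have hi : y⁻¹ ∈ W := (W.mem_or_inv_mem y).resolve_left hyW
    have hy0 : y ≠ 0 := fun h => hyW (h ▸ W.zero_mem)
    have hm : (⟨y⁻¹, hi⟩ : W) ∈ maximalIdeal W := fun hu => by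
      obtain ⟨c, hc⟩ := hu.exists_right_inv
      have h1 : y⁻¹ * (c : M) = 1 := congrArg Subtype.val hc
      exact hyW (by rw [show y = (c : M) by field_simp at h1; exact h1.symm]; exact c.2)
    have h2 : V.valuation (e1 y⁻¹) < 1 := hV.2 _ hm
    rw [map_inv₀, map_inv₀] at h2
    exact absurd ((V.valuation_le_one_iff _).2 hy)
      (not_le.2 ((inv_lt_one₀ (zero_lt_iff.2 (V.valuation.ne_zero_iff.2 ((_root_.map_ne_zero e1).2 hy0)))).1 h2))
  letI : Algebra B E := ((algebraMap L E).comp (algebraMap B L)).toAlgebra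
  haveI : IsScalarTower B L E := IsScalarTower.of_algebraMap_eq fun _ => rfl
  have hVA : ∀ c : B, algebraMap B E c ∈ V := fun c => by
    show algebraMap L E (algebraMap B L c) ∈ V
    rw [← e1.commutes]
    exact hV.1 ⟨_, hW.1 c⟩
  have hVm : ∀ c ∈ maximalIdeal B, V.valuation (algebraMap B E c) < 1 := fun c hc => by
    show V.valuation (algebraMap L E (algebraMap B L c)) < 1
    rw [← e1.commutes]
    exact hV.2 ⟨_, hW.1 c⟩ ((W.valuation_lt_one_iff _).2 (hW.2 c hc))
  have hOA : ∀ c : B, algebraMap B E c ∈ O.comap E.val.toRingHom := fun c => hO.1 c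
  have hOm : ∀ c ∈ maximalIdeal B, (O.comap E.val.toRingHom).valuation (algebraMap B E c) < 1 := fun c hc =>
    (Groth.Agent.H1Ram.comap_valuation_lt_one O E.val.toRingHom _).2 (hO.2 c hc)
  obtain ⟨σ, hσ⟩ := H1Stab.exists_conjugate (A := B) (K := L) V (O.comap E.val.toRingHom) hVA hVm hOA hOm
  refine ⟨E.val.comp (σ.toAlgHom.comp e1), ?_⟩
  rw [← hVW, ← hσ]
  exact SetLike.ext fun _ => Iff.rfl

end Groth.Agent.H1Sh
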