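import Mathlib.RingTheory.Valuation.LocalSubring
import Mathlib.RingTheory.LocalRing.ResidueField.Basic
import Mathlib.FieldTheory.Minpoly.IsIntegrallyClosed
import Mathlib.FieldTheory.SeparableClosure
import Mathlib.RingTheory.DiscreteValuationRing.Basic
import Groth.Prelude.Def_EtRam

/-!
# Extensions generated by simple roots at a fixed place
-/

set_option autoImplicit false

universe u

open IsLocalRing Polynomial

namespace Groth.Agent.H1Sh

variable {Ω : Type u} [Field Ω] (O : ValuationSubring Ω)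

/-- The residue field of a subfield inside the residue field of the place. -/
noncomputable def res (E : Subfield Ω) : Subfield (ResidueField O) :=
  (ResidueField.map (EtRam.inclOfComap O E.subtype)).fieldRange

theorem residue_mem_res {E : Subfield Ω} {x : O} (hx : (x : Ω) ∈ E) : residue O x ∈ res O E :=
  ⟨residue _ (⟨⟨(x : Ω), hx⟩, x.2⟩ : O.comap E.subtype),
    ResidueField.map_residue (EtRam.inclOfComap O E.subtype) ⟨⟨(x : Ω), hx⟩, x.2⟩⟩

theorem mem_res {E : Subfield Ω} {z : ResidueField O} (hz : z ∈ res O E) :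
    ∃ x : O, (x : Ω) ∈ E ∧ residue O x = z := by
  obtain ⟨w, rfl⟩ := hz
  obtain ⟨a, rfl⟩ := residue_surjective w
  exact ⟨EtRam.inclOfComap O E.subtype a, a.1.2,
    (ResidueField.map_residue (EtRam.inclOfComap O E.subtype) a).symm⟩

theorem res_mono {E F : Subfield Ω} (h : E ≤ F) : res O E ≤ res O F := fun z hz => by
  obtain ⟨x, hx, rfl⟩ := mem_res O hz
  exact residue_mem_res O (h hx)

/-- All values of the subfield are powers of that of `π`. -/
def Disc (π : Ω) (E : Subfield Ω) : Prop :=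
  π ∈ E ∧ π ≠ 0 ∧ O.valuation π < 1 ∧ ∀ y ∈ E, y ≠ 0 → ∃ n : ℤ, O.valuation y = O.valuation π ^ n

/-- `α` is a simple root at the place of a monic polynomial integral over `E`. -/
def Root (E : Subfield Ω) (α : Ω) : Prop :=
  ∃ f : Ω[X], f.Monic ∧ (∀ i, f.coeff i ∈ E ∧ f.coeff i ∈ O) ∧ f.eval α = 0 ∧
    O.valuation (f.derivative.eval α) = 1

theorem Root.mono {E F : Subfield Ω} (h : E ≤ F) {α : Ω} (hα : Root O E α) : Root O F α := by
  obtain ⟨f, hf, hc, h0, h1⟩ := hα
  exact ⟨f, hf, fun i => ⟨h (hc i).1, (hc i).2⟩, h0, h1⟩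

/-- Residues in `F` are separable over those of `E`. -/
def Sep (E F : Subfield Ω) : Prop := ∀ z ∈ res O F, IsSeparable (res O E) z

theorem Sep.refl (E : Subfield Ω) : Sep O E E := fun z hz =>
  isSeparable_algebraMap (⟨z, hz⟩ : res O E)

theorem Sep.trans {E F G : Subfield Ω} (hEF : E ≤ F) (h₁ : Sep O E F) (h₂ : Sep O F G) : Sep O E G := by
  intro z hz
  let P : IntermediateField (res O E) (ResidueField O) :=
    Subfield.toIntermediateField (res O F) fun x => res_mono O hEF x.2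
  haveI : Algebra.IsSeparable (res O E) P := ⟨fun x =>
    (isSeparable_map_iff P.val P.val.injective).1 (h₁ (x : ResidueField O) x.2)⟩
  have hP : IsSeparable P z := h₂ z hz
  exact IsSeparable.of_algebra_isSeparable_of_isSeparable (res O E) hP

variable {O}

theorem Disc.le_one {π : Ω} {E : Subfield Ω} (hd : Disc O π E) {y : Ω} (hy : y ∈ E) (hy0 : y ≠ 0)
    (h : O.valuation y ≤ 1) : ∃ n : ℕ, O.valuation y = O.valuation π ^ n := by
  obtain ⟨n, hn⟩ := hd.2.2.2 y hy hy0
  obtain ⟨m, rfl⟩ : ∃ m : ℕ, n = m := by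
    refine ⟨n.toNat, (Int.toNat_of_nonneg ?_).symm⟩
    by_contra hneg
    rw [not_le] at hneg
    have h1 : (1 : O.ValueGroup) < O.valuation π ^ n :=
      one_lt_zpow_of_neg₀ (zero_lt_iff.2 (O.valuation.ne_zero_iff.2 hd.2.1)) hd.2.2.1 hneg
    exact absurd (hn ▸ h) (not_le.2 h1)
  exact ⟨m, by rw [hn, zpow_natCast]⟩

theorem Disc.div_mem {π : Ω} {E : Subfield Ω} (hd : Disc O π E) {y : Ω} (hy : y ∈ E)
    (h : O.valuation y < 1) : y / π ∈ O := by
  rcases eq_or_ne y 0 with rfl | hy0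
  · rw [zero_div]; exact O.zero_mem
  obtain ⟨n, hn⟩ := hd.le_one hy hy0 h.le
  rw [← O.valuation_le_one_iff, map_div₀, hn]
  rcases n with _ | n
  · rw [hn, pow_zero] at h; exact absurd h (lt_irrefl _)
  · rw [pow_succ, mul_div_assoc, div_self (O.valuation.ne_zero_iff.2 hd.2.1), mul_one]
    exact pow_le_one₀ zero_le' hd.2.2.1.le

theorem isSeparable_of_mem_adjoin {k K : Type u} [Field k] [Field K] [Algebra k K] {a x : K} (h : IsSeparable k a)
    (hx : x ∈ IntermediateField.adjoin k ({a} : Set K)) : IsSeparable k x := by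
  haveI : Algebra.IsSeparable k (IntermediateField.adjoin k ({a} : Set K)) :=
    (IntermediateField.isSeparable_adjoin_simple_iff_isSeparable k K).2 h
  exact IntermediateField.isSeparable_of_mem_isSeparable k K hx

/-- Values of polynomials in the root, by descent. -/
theorem exists_eq_pow_mul {R : Type u} [CommRing R] (ev : R →+* O) {π : Ω} (hπ0 : π ≠ 0) (Rr : R)
    (hR : O.valuation (ev Rr : Ω) = 1)
    (step : ∀ p : R, O.valuation (ev p : Ω) < 1 → ∃ t : R, (ev p : Ω) * (ev Rr : Ω) = π * (ev t : Ω)) :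
    ∀ (N : ℕ) (p : R), O.valuation π ^ N ≤ O.valuation (ev p : Ω) →
      ∃ (n : ℕ) (s t : R), O.valuation (ev s : Ω) = 1 ∧ O.valuation (ev t : Ω) = 1 ∧
        (ev p : Ω) * (ev s : Ω) = π ^ n * (ev t : Ω) := by
  intro N
  induction N with
  | zero =>
    intro p hp
    refine ⟨0, 1, p, ?_, le_antisymm ((O.valuation_le_one_iff _).2 (ev p).2) (by simpa using hp), ?_⟩
    · rw [map_one]; exact map_one _
    · rw [map_one, OneMemClass.coe_one, mul_one, pow_zero, one_mul]
  | succ N ih =>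
    intro p hp
    rcases eq_or_lt_of_le ((O.valuation_le_one_iff _).2 (ev p).2) with h1 | h1
    · exact ⟨0, 1, p, by rw [map_one]; exact map_one _, h1,
        by rw [map_one, OneMemClass.coe_one, mul_one, pow_zero, one_mul]⟩
    · obtain ⟨t, ht⟩ := step p h1
      have hle : O.valuation π ^ N ≤ O.valuation (ev t : Ω) := by
        have h2 := congrArg O.valuation ht
        rw [map_mul, map_mul, hR, mul_one] at h2
        rw [h2, pow_succ'] at hp
        exact le_of_mul_le_mul_left hp (zero_lt_iff.2 (O.valuation.ne_zero_iff.2 hπ0))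
      obtain ⟨n, s, t', hs, ht', hst⟩ := ih t hle
      refine ⟨n + 1, Rr * s, t', ?_, ht', ?_⟩
      · rw [map_mul, MulMemClass.coe_mul, map_mul, hR, hs, one_mul]
      · rw [map_mul, MulMemClass.coe_mul, ← mul_assoc, ht, mul_assoc, hst, pow_succ', mul_assoc]

variable (O) in
/-- Evaluation at an element of the place. -/
noncomputable def evO (E : Subfield Ω) (a : O) : (O.comap E.subtype)[X] →+* O :=
  Polynomial.eval₂RingHom (EtRam.inclOfComap O E.subtype) a

theorem evO_C (E : Subfield Ω) (a : O) (c : O.comap E.subtype) : (evO O E a (C c) : Ω) = ((c : E) : Ω) := by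
  show ((Polynomial.eval₂ _ a (C c) : O) : Ω) = _
  rw [Polynomial.eval₂_C]; rfl

theorem evO_X (E : Subfield Ω) (a : O) : evO O E a X = a := Polynomial.eval₂_X _ _

variable (O) in
/-- Reduction of coefficients. -/
noncomputable def redE (E : Subfield Ω) : O.comap E.subtype →+* res O E :=
  ((residue O).comp (EtRam.inclOfComap O E.subtype)).codRestrict (res O E) fun c => residue_mem_res O c.1.2

theorem redE_surjective (E : Subfield Ω) (z : res O E) : ∃ c, redE O E c = z := by
  obtain ⟨x, hx, hxz⟩ := mem_res O z.2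
  exact ⟨⟨⟨x, hx⟩, x.2⟩, Subtype.ext hxz⟩

theorem residue_evO (E : Subfield Ω) (a : O) (p : (O.comap E.subtype)[X]) :
    residue O (evO O E a p) = Polynomial.aeval (residue O a) (p.map (redE O E)) := by
  show residue O (Polynomial.eval₂ _ a p) = _
  rw [Polynomial.hom_eval₂, Polynomial.aeval_def, Polynomial.eval₂_map]
  rfl

/-- A simple root satisfies a monic polynomial over the valuation ring with simple root, minimal. -/
theorem exists_minimal_data {E : Subfield Ω} {α : Ω} (hα : Root O E α) :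
    ∃ (a : O), (a : Ω) = α ∧ IsAlgebraic E α ∧
      (∃ g : (O.comap E.subtype)[X], g.Monic ∧ evO O E a g = 0 ∧ residue O (evO O E a g.derivative) ≠ 0) ∧
      ∀ p : (O.comap E.subtype)[X], (evO O E a p : Ω) ≠ 0 → ∃ (c : O.comap E.subtype) (y : O),
        ((c : E) : Ω) ≠ 0 ∧ ((c : E) : Ω) = (evO O E a p : Ω) * y := by
  classical
  obtain ⟨f, hf, hc, hf0, hf1⟩ := hα
  letI : Algebra (O.comap E.subtype) Ω := (O.subtype.comp (EtRam.inclOfComap O E.subtype)).toAlgebra
  haveI : IsScalarTower (O.comap E.subtype) E Ω := IsScalarTower.of_algebraMap_eq fun _ => rfl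
  haveI : FaithfulSMul (O.comap E.subtype) Ω := (faithfulSMul_iff_algebraMap_injective _ Ω).2
    (fun a b h => Subtype.ext (Subtype.ext h))
  haveI : Module.IsTorsionFree (O.comap E.subtype) Ω := inferInstance
  obtain ⟨fV, hfV, -, hfVm⟩ := Polynomial.lifts_and_degree_eq_and_monic (f := algebraMap (O.comap E.subtype) Ω) (p := f)
    ((Polynomial.lifts_iff_coeff_lifts _).2 fun i => ⟨⟨⟨_, (hc i).1⟩, (hc i).2⟩, rfl⟩) hf
  have hint : IsIntegral (O.comap E.subtype) α := ⟨fV, hfVm, by rw [← Polynomial.eval_map, hfV]; exact hf0⟩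
  have hαO : α ∈ O := by
    letI : Algebra (O.comap E.subtype) O := (EtRam.inclOfComap O E.subtype).toAlgebra
    haveI : IsScalarTower (O.comap E.subtype) O Ω := IsScalarTower.of_algebraMap_eq fun _ => rfl
    obtain ⟨y, hy⟩ := IsIntegrallyClosed.isIntegral_iff.1 (hint.tower_top (A := O))
    exact hy ▸ y.2
  have hev : ∀ p, (evO O E ⟨α, hαO⟩ p : Ω) = Polynomial.aeval α p := fun p => by
    show O.subtype (Polynomial.eval₂ _ _ p) = _
    rw [Polynomial.hom_eval₂, Polynomial.aeval_def]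
    rfl
  refine ⟨⟨α, hαO⟩, rfl, (hint.tower_top (A := E)).isAlgebraic, ⟨minpoly _ α, minpoly.monic hint,
    Subtype.ext (by rw [hev, minpoly.aeval]; rfl), fun h0 => ?_⟩, fun p hp => ?_⟩
  · obtain ⟨h, hh⟩ : minpoly (O.comap E.subtype) α ∣ fV := minpoly.isIntegrallyClosed_dvd hint (by
      rw [Polynomial.aeval_def, ← Polynomial.eval_map, hfV]; exact hf0)
    have hga : evO O E ⟨α, hαO⟩ (minpoly _ α) = 0 := Subtype.ext (by rw [hev, minpoly.aeval]; rfl)
    have h1 : residue O (evO O E ⟨α, hαO⟩ fV.derivative) = 0 := by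
      rw [hh, Polynomial.derivative_mul, map_add, map_mul, map_mul, hga, zero_mul, add_zero, map_mul, h0, zero_mul]
    have h2 := (O.valuation_lt_one_iff _).1 ((residue_eq_zero_iff _).1 h1)
    rw [hev, Polynomial.aeval_def, ← Polynomial.eval_map, ← Polynomial.derivative_map, hfV] at h2
    exact h2.ne hf1
  · obtain ⟨y, hy⟩ : ∃ y : Ω, y = (evO O E ⟨α, hαO⟩ p : Ω) := ⟨_, rfl⟩
    have hyO : y ∈ O := hy ▸ SetLike.coe_mem _
    have hiy : IsIntegral (O.comap E.subtype) y := by
      rw [hy, hev]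
      exact adjoin_le_integralClosure hint (Polynomial.aeval_mem_adjoin_singleton _ _)
    rw [← hy] at hp ⊢
    have hc0 : ((((minpoly (O.comap E.subtype) y).coeff 0 : O.comap E.subtype) : E) : Ω) ≠ 0 := fun h => by
      have h1 := minpoly.coeff_zero_ne_zero (A := E) (hiy.tower_top (A := E)) hp
      rw [minpoly.isIntegrallyClosed_eq_field_fractions' E hiy, Polynomial.coeff_map] at h1
      exact h1 (Subtype.ext h)
    refine ⟨_, -(evO O E ⟨y, hyO⟩ (minpoly (O.comap E.subtype) y).divX), hc0, ?_⟩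
    have h3 : (evO O E ⟨y, hyO⟩ (minpoly (O.comap E.subtype) y) : Ω) = 0 := by
      show O.subtype (Polynomial.eval₂ _ _ _) = 0
      rw [Polynomial.hom_eval₂]
      exact minpoly.aeval _ y
    rw [← Polynomial.X_mul_divX_add (minpoly (O.comap E.subtype) y), map_add, map_mul, AddMemClass.coe_add,
      MulMemClass.coe_mul, evO_C, evO_X] at h3
    rw [NegMemClass.coe_neg, mul_neg]
    exact eq_neg_of_add_eq_zero_right h3

/-- The step and the separability of the residue. -/
theorem exists_step {π : Ω} {E : Subfield Ω} (hd : Disc O π E) (a : O) {g : (O.comap E.subtype)[X]} (hg : g.Monic)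
    (hga : evO O E a g = 0) (hg' : residue O (evO O E a g.derivative) ≠ 0) :
    IsSeparable (res O E) (residue O a) ∧ ∃ R : (O.comap E.subtype)[X], O.valuation (evO O E a R : Ω) = 1 ∧
      ∀ p : (O.comap E.subtype)[X], O.valuation (evO O E a p : Ω) < 1 →
        ∃ t : (O.comap E.subtype)[X], (evO O E a p : Ω) * (evO O E a R : Ω) = π * (evO O E a t : Ω) := by
  classical
  have hga' : Polynomial.aeval (residue O a) (g.map (redE O E)) = 0 := by rw [← residue_evO, hga, map_zero]
  have hintk : IsIntegral (res O E) (residue O a) := ⟨g.map (redE O E), hg.map _, hga'⟩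
  obtain ⟨q, hq⟩ : ∃ q, q = minpoly (res O E) (residue O a) := ⟨_, rfl⟩
  obtain ⟨r, hr⟩ : q ∣ g.map (redE O E) := hq ▸ minpoly.dvd _ _ hga'
  have hqr : Polynomial.aeval (residue O a) q.derivative ≠ 0 ∧ Polynomial.aeval (residue O a) r ≠ 0 := by
    have hq0 : Polynomial.aeval (residue O a) q = 0 := hq ▸ minpoly.aeval _ _
    have h1 := hg'
    rw [residue_evO, ← Polynomial.derivative_map, hr, Polynomial.derivative_mul, map_add, map_mul, map_mul, hq0,
      zero_mul, add_zero] at h1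
    exact ⟨left_ne_zero_of_mul h1, right_ne_zero_of_mul h1⟩
  refine ⟨?_, ?_⟩
  · show (minpoly (res O E) (residue O a)).Separable
    rw [← hq, Polynomial.separable_iff_derivative_ne_zero (hq ▸ minpoly.irreducible hintk)]
    exact fun h0 => hqr.1 (by rw [h0, map_zero])
  obtain ⟨R, hR⟩ := Polynomial.map_surjective (redE O E) (redE_surjective E) r
  refine ⟨R, (O.valuation_eq_one_iff _).1 ((residue_ne_zero_iff_isUnit _).1 ?_), fun p hp => ?_⟩
  · rw [residue_evO, hR]; exact hqr.2
  have h0 : residue O (evO O E a p) = 0 := (residue_eq_zero_iff _).2 ((O.valuation_lt_one_iff _).2 hp)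
  rw [residue_evO] at h0
  obtain ⟨c, hc'⟩ : q ∣ p.map (redE O E) := hq ▸ minpoly.dvd _ _ h0
  obtain ⟨cV, rfl⟩ := Polynomial.map_surjective (redE O E) (redE_surjective E) c
  obtain ⟨z, hz'⟩ : ∃ z, z = p * R - g * cV := ⟨_, rfl⟩
  have hz : z.map (redE O E) = 0 := by
    rw [hz', Polynomial.map_sub, Polynomial.map_mul, Polynomial.map_mul, hc', hR, hr]; ring
  let πV : O.comap E.subtype := ⟨⟨π, hd.1⟩, (O.valuation_le_one_iff _).1 hd.2.2.1.le⟩
  obtain ⟨t, ht⟩ : C πV ∣ z := by
    rw [Polynomial.C_dvd_iff_dvd_coeff]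
    intro i
    obtain ⟨e, he⟩ : ∃ e, e = z.coeff i := ⟨_, rfl⟩
    have h1 : residue O (EtRam.inclOfComap O E.subtype e) = 0 := by
      have h2 := congrArg (fun w : (res O E)[X] => ((w.coeff i : res O E) : ResidueField O)) hz
      simp only [Polynomial.coeff_map, Polynomial.coeff_zero, ← he, ZeroMemClass.coe_zero] at h2
      exact h2
    have h3 := (O.valuation_lt_one_iff _).1 ((residue_eq_zero_iff _).1 h1)
    rw [← he]
    refine ⟨⟨⟨(e : E) / π, E.div_mem (e : E).2 hd.1⟩, hd.div_mem (e : E).2 h3⟩, Subtype.ext (Subtype.ext ?_)⟩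
    show ((e : E) : Ω) = π * (((e : E) : Ω) / π)
    rw [mul_div_cancel₀ _ hd.2.1]
  refine ⟨t, ?_⟩
  have h4 := congrArg (fun w => (evO O E a w : Ω)) ht
  simp only [hz', map_sub, map_mul, hga, zero_mul, sub_zero, MulMemClass.coe_mul, evO_C] at h4
  exact h4

/-- Clearing denominators. -/
theorem exists_scaled {π : Ω} {E : Subfield Ω} (hd : Disc O π E) (a : O) (halg : IsAlgebraic E (a : Ω)) {y : Ω}
    (hy : y ∈ Subfield.closure ((E : Set Ω) ∪ {(a : Ω)})) :
    ∃ (m : ℕ) (p : (O.comap E.subtype)[X]), y * π ^ m = (evO O E a p : Ω) := by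
  classical
  have hy' : y ∈ IntermediateField.adjoin E ({(a : Ω)} : Set Ω) := by
    refine (Subfield.closure_le.2 ?_ : Subfield.closure ((E : Set Ω) ∪ {(a : Ω)}) ≤
      (IntermediateField.adjoin E ({(a : Ω)} : Set Ω)).toSubfield) hy
    rintro z (hz | rfl)
    · exact (IntermediateField.adjoin E _).algebraMap_mem (⟨z, hz⟩ : E)
    · exact IntermediateField.subset_adjoin E _ rfl
  rw [← IntermediateField.mem_toSubalgebra, IntermediateField.adjoin_simple_toSubalgebra_of_isAlgebraic halg,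
    Algebra.adjoin_singleton_eq_range_aeval] at hy'
  obtain ⟨P, rfl⟩ := hy'
  clear hy
  let πV : O.comap E.subtype := ⟨⟨π, hd.1⟩, (O.valuation_le_one_iff _).1 hd.2.2.1.le⟩
  induction P using Polynomial.induction_on' with
  | add P Q hP hQ =>
    obtain ⟨m₁, p₁, h₁⟩ := hP; obtain ⟨m₂, p₂, h₂⟩ := hQ
    refine ⟨m₁ + m₂, C (πV ^ m₂) * p₁ + C (πV ^ m₁) * p₂, ?_⟩
    rw [map_add, map_add, map_mul (evO O E a), map_mul (evO O E a), AddMemClass.coe_add, MulMemClass.coe_mul,
      MulMemClass.coe_mul, evO_C, evO_C, ← h₁, ← h₂]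
    simp only [SubmonoidClass.coe_pow, πV, AlgHom.toRingHom_eq_coe, RingHom.coe_coe, pow_add]
    ring
  | monomial i c =>
    obtain ⟨m, hm⟩ : ∃ m : ℕ, O.valuation ((c : Ω) * π ^ m) ≤ 1 := by
      rcases eq_or_ne (c : Ω) 0 with h0 | h0
      · exact ⟨0, by rw [h0, zero_mul, map_zero]; exact zero_le'⟩
      obtain ⟨n, hn⟩ := hd.2.2.2 _ c.2 h0
      refine ⟨n.natAbs, ?_⟩
      rw [map_mul, map_pow, hn, ← zpow_natCast, ← zpow_add₀ (O.valuation.ne_zero_iff.2 hd.2.1)]
      obtain ⟨k', hk'⟩ : ∃ k' : ℕ, n + (n.natAbs : ℤ) = k' := ⟨(n + n.natAbs).toNat, by omega⟩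
      rw [hk', zpow_natCast]
      exact pow_le_one₀ zero_le' hd.2.2.1.le
    refine ⟨m, C (⟨⟨(c : Ω) * π ^ m, E.mul_mem c.2 (E.pow_mem hd.1 m)⟩, (O.valuation_le_one_iff _).1 hm⟩ : O.comap E.subtype) * X ^ i, ?_⟩
    rw [map_mul (evO O E a), map_pow (evO O E a), MulMemClass.coe_mul, evO_C, evO_X, SubmonoidClass.coe_pow]
    show Polynomial.aeval (a : Ω) (monomial i c) * π ^ m = ((c : Ω) * π ^ m) * (a : Ω) ^ i
    rw [Polynomial.aeval_monomial]
    show (c : Ω) * (a : Ω) ^ i * π ^ m = _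
    ring

/-- One simple root. -/
theorem disc_sep_adjoin {π : Ω} (E : Subfield Ω) (hd : Disc O π E) {α : Ω} (hα : Root O E α) :
    Disc O π (Subfield.closure ((E : Set Ω) ∪ {α})) ∧ Sep O E (Subfield.closure ((E : Set Ω) ∪ {α})) := by
  classical
  obtain ⟨a, rfl, halg, ⟨g, hg, hga, hg'⟩, hbound⟩ := exists_minimal_data hα
  obtain ⟨hsepa, R, hR, step⟩ := exists_step hd a hg hga hg'
  have hπO : π ∈ O := (O.valuation_le_one_iff _).1 hd.2.2.1.le
  have values : ∀ p, (evO O E a p : Ω) ≠ 0 → ∃ (n : ℕ) (s t : (O.comap E.subtype)[X]),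
      O.valuation (evO O E a s : Ω) = 1 ∧ O.valuation (evO O E a t : Ω) = 1 ∧
      (evO O E a p : Ω) * (evO O E a s : Ω) = π ^ n * (evO O E a t : Ω) := fun p hp => by
    obtain ⟨c, y, hc, hcy⟩ := hbound p hp
    obtain ⟨n, hn⟩ := hd.le_one (c : E).2 hc ((O.valuation_le_one_iff _).2 (EtRam.inclOfComap O E.subtype c).2)
    refine exists_eq_pow_mul _ hd.2.1 R hR step n p ?_
    rw [← hn, hcy, map_mul]
    exact mul_le_of_le_one_right' ((O.valuation_le_one_iff _).2 y.2)
  have main : ∀ y ∈ Subfield.closure ((E : Set Ω) ∪ {(a : Ω)}), y ≠ 0 → ∃ (n : ℤ) (s t : (O.comap E.subtype)[X]),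
      O.valuation (evO O E a s : Ω) = 1 ∧ O.valuation (evO O E a t : Ω) = 1 ∧
      y * (evO O E a s : Ω) = π ^ n * (evO O E a t : Ω) ∧ O.valuation y = O.valuation π ^ n := by
    intro y hy hy0
    obtain ⟨m, p, hp⟩ := exists_scaled hd a halg hy
    obtain ⟨n, s, t, hs, ht, hst⟩ := values p (hp ▸ mul_ne_zero hy0 (pow_ne_zero _ hd.2.1))
    have heq : y * (evO O E a s : Ω) = π ^ ((n : ℤ) - m) * (evO O E a t : Ω) := by
      rw [zpow_sub₀ hd.2.1, zpow_natCast, zpow_natCast, div_mul_eq_mul_div, eq_div_iff (pow_ne_zero _ hd.2.1), ← hst, ← hp]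
      ring
    refine ⟨(n : ℤ) - m, s, t, hs, ht, heq, ?_⟩
    have h1 := congrArg O.valuation heq
    rwa [map_mul, map_mul, hs, ht, mul_one, mul_one, map_zpow₀] at h1
  have hle : E ≤ Subfield.closure ((E : Set Ω) ∪ {(a : Ω)}) := fun z hz => Subfield.subset_closure (Or.inl hz)
  refine ⟨⟨hle hd.1, hd.2.1, hd.2.2.1, fun y hy hy0 => ?_⟩, fun z hz => ?_⟩
  · obtain ⟨n, _, _, _, _, _, hn⟩ := main y hy hy0
    exact ⟨n, hn⟩
  obtain ⟨x, hx, rfl⟩ := mem_res O hz
  rcases eq_or_ne (x : Ω) 0 with h0 | h0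
  · rw [show x = 0 from Subtype.ext h0, map_zero, ← map_zero (algebraMap (res O E) (ResidueField O))]
    exact isSeparable_algebraMap _
  obtain ⟨n, s, t, hs, ht, hst, hn⟩ := main x hx h0
  obtain ⟨m, rfl⟩ : ∃ m : ℕ, n = m := by
    refine ⟨n.toNat, (Int.toNat_of_nonneg ?_).symm⟩
    by_contra hneg
    rw [not_le] at hneg
    have h1 : (1 : O.ValueGroup) < O.valuation π ^ n :=
      one_lt_zpow_of_neg₀ (zero_lt_iff.2 (O.valuation.ne_zero_iff.2 hd.2.1)) hd.2.2.1 hneg
    exact absurd (hn ▸ (O.valuation_le_one_iff _).2 x.2) (not_le.2 h1)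
  let πV : O.comap E.subtype := ⟨⟨π, hd.1⟩, hπO⟩
  have heq : x * evO O E a s = evO O E a (C (πV ^ m) * t) := by
    refine Subtype.ext ?_
    rw [MulMemClass.coe_mul, hst, map_mul, MulMemClass.coe_mul, zpow_natCast, evO_C, SubmonoidClass.coe_pow,
      SubmonoidClass.coe_pow]
  have hres := congrArg (residue O) heq
  rw [map_mul, residue_evO, residue_evO] at hres
  have hsne : Polynomial.aeval (residue O a) (s.map (redE O E)) ≠ 0 := by
    rw [← residue_evO]; exact (residue_ne_zero_iff_isUnit _).2 ((O.valuation_eq_one_iff _).2 hs)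
  refine isSeparable_of_mem_adjoin hsepa ?_
  rw [(eq_div_iff hsne).2 hres]
  exact div_mem (IntermediateField.algebra_adjoin_le_adjoin _ _ (Polynomial.aeval_mem_adjoin_singleton _ _))
    (IntermediateField.algebra_adjoin_le_adjoin _ _ (Polynomial.aeval_mem_adjoin_singleton _ _))

/-- Finitely many, hence arbitrarily many, simple roots. -/
theorem disc_sep_closure {π : Ω} (E : Subfield Ω) (hd : Disc O π E) (T : Set Ω) (hT : ∀ α ∈ T, Root O E α) :
    Disc O π (Subfield.closure ((E : Set Ω) ∪ T)) ∧ Sep O E (Subfield.closure ((E : Set Ω) ∪ T)) := by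
  classical
  have hfin : ∀ s : Finset Ω, (∀ α ∈ s, Root O E α) →
      Disc O π (Subfield.closure ((E : Set Ω) ∪ s)) ∧ Sep O E (Subfield.closure ((E : Set Ω) ∪ s)) := by
    intro s
    induction s using Finset.induction with
    | empty =>
      intro _
      rw [Finset.coe_empty, Set.union_empty, Subfield.closure_eq]
      exact ⟨hd, Sep.refl O E⟩
    | insert α s _ ih =>
      intro h
      obtain ⟨h1, h2⟩ := ih fun β hβ => h β (Finset.mem_insert_of_mem hβ)
      have hEF : E ≤ Subfield.closure ((E : Set Ω) ∪ s) := fun z hz => Subfield.subset_closure (Or.inl hz)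
      obtain ⟨h3, h4⟩ := disc_sep_adjoin _ h1 ((h α (Finset.mem_insert_self α s)).mono O hEF)
      have heq : Subfield.closure ((Subfield.closure ((E : Set Ω) ∪ s) : Set Ω) ∪ {α}) =
          Subfield.closure ((E : Set Ω) ∪ (insert α s : Finset Ω)) := by
        refine le_antisymm (Subfield.closure_le.2 ?_) (Subfield.closure_le.2 ?_)
        · rintro z (hz | rfl)
          · exact Subfield.closure_mono (Set.union_subset_union_right _ (by simp)) hz
          · exact Subfield.subset_closure (Or.inr (by simp))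
        · rintro z (hz | hz)
          · exact Subfield.subset_closure (Or.inl (hEF hz))
          · rcases Finset.mem_insert.1 (Finset.mem_coe.1 hz) with rfl | hz
            · exact Subfield.subset_closure (Or.inr rfl)
            · exact Subfield.subset_closure (Or.inl (Subfield.subset_closure (Or.inr hz)))
      rw [heq] at h3 h4
      exact ⟨h3, Sep.trans O hEF h2 h4⟩
  have key : ∀ y ∈ Subfield.closure ((E : Set Ω) ∪ T),
      ∃ s : Finset Ω, ↑s ⊆ T ∧ y ∈ Subfield.closure ((E : Set Ω) ∪ s) := by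
    intro y hy
    have hy' : y ∈ IntermediateField.adjoin E T := by
      refine (Subfield.closure_le.2 ?_ : Subfield.closure ((E : Set Ω) ∪ T) ≤ (IntermediateField.adjoin E T).toSubfield) hy
      rintro z (hz | hz)
      · exact (IntermediateField.adjoin E T).algebraMap_mem (⟨z, hz⟩ : E)
      · exact IntermediateField.subset_adjoin E _ hz
    obtain ⟨s, hs, hys⟩ := IntermediateField.exists_finset_of_mem_adjoin hy'
    refine ⟨s, hs, ?_⟩
    have h : Subfield.closure (Set.range (algebraMap E Ω) ∪ (s : Set Ω)) ≤ Subfield.closure ((E : Set Ω) ∪ s) := by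
      refine Subfield.closure_le.2 ?_
      rintro z (⟨c, rfl⟩ | hz)
      · exact Subfield.subset_closure (Or.inl c.2)
      · exact Subfield.subset_closure (Or.inr hz)
    exact h hys
  have hle : E ≤ Subfield.closure ((E : Set Ω) ∪ T) := fun z hz => Subfield.subset_closure (Or.inl hz)
  refine ⟨⟨hle hd.1, hd.2.1, hd.2.2.1, fun y hy hy0 => ?_⟩, fun z hz => ?_⟩
  · obtain ⟨s, hs, hys⟩ := key y hy
    exact (hfin s fun α hα => hT α (hs hα)).1.2.2.2 y hys hy0
  · obtain ⟨x, hx, rfl⟩ := mem_res O hz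
    obtain ⟨s, hs, hxs⟩ := key (x : Ω) hx
    exact (hfin s fun α hα => hT α (hs hα)).2 _ (residue_mem_res O hxs)

theorem Disc.isDVR {π : Ω} {E : Subfield Ω} (hd : Disc O π E) : IsDiscreteValuationRing (O.comap E.subtype) := by
  have hπO : π ∈ O := (O.valuation_le_one_iff _).1 hd.2.2.1.le
  let p : O.comap E.subtype := ⟨⟨π, hd.1⟩, hπO⟩
  have hu : ∀ x : O.comap E.subtype, O.valuation ((x : E) : Ω) = 1 → IsUnit x := by
    intro x hx
    refine isUnit_of_map_unit (EtRam.inclOfComap O E.subtype) x ?_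
    exact (O.valuation_eq_one_iff _).2 hx
  have hfac : ∀ x : O.comap E.subtype, x ≠ 0 → ∃ (n : ℕ) (w : (O.comap E.subtype)ˣ), p ^ n * w = x := by
    intro x hx
    have hx0 : ((x : E) : Ω) ≠ 0 := fun h => hx (Subtype.ext (Subtype.ext h))
    obtain ⟨n, hn⟩ := hd.le_one (x : E).2 hx0 ((O.valuation_le_one_iff _).2 (EtRam.inclOfComap O E.subtype x).2)
    have hv : O.valuation (((x : E) : Ω) / π ^ n) = 1 := by
      rw [map_div₀, map_pow, hn, div_self (pow_ne_zero _ (O.valuation.ne_zero_iff.2 hd.2.1))]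
    let w : O.comap E.subtype := ⟨⟨_, E.div_mem (x : E).2 (E.pow_mem hd.1 n)⟩, (O.valuation_le_one_iff _).1 hv.le⟩
    refine ⟨n, (hu w hv).unit, Subtype.ext (Subtype.ext ?_)⟩
    show π ^ n * (((x : E) : Ω) / π ^ n) = ((x : E) : Ω)
    rw [mul_div_cancel₀ _ (pow_ne_zero _ hd.2.1)]
  have hp : Irreducible p := by
    have hpu : ¬ IsUnit p := fun h => by
      have h1 := (O.valuation_eq_one_iff _).1 (h.map (EtRam.inclOfComap O E.subtype))
      exact hd.2.2.1.ne h1
    refine ⟨hpu, fun {a b} hab => ?_⟩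
    have hp0 : p ≠ 0 := fun h => hd.2.1 (congrArg (fun z : O.comap E.subtype => ((z : E) : Ω)) h)
    obtain ⟨ha, hb⟩ := mul_ne_zero_iff.1 (hab ▸ hp0)
    obtain ⟨n, w, rfl⟩ := hfac a ha
    obtain ⟨m, w', rfl⟩ := hfac b hb
    rcases n with _ | n
    · exact Or.inl (by simp)
    rcases m with _ | m
    · exact Or.inr (by simp)
    exfalso
    have h1 : p * 1 = p * (p ^ n * w * (p ^ m * w') * p) := by
      rw [mul_one]; nth_rewrite 1 [hab]; rw [pow_succ, pow_succ]; ring
    exact hpu (IsUnit.of_mul_eq_one_right _ (mul_left_cancel₀ hp0 h1).symm)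
  exact IsDiscreteValuationRing.ofHasUnitMulPowIrreducibleFactorization ⟨p, hp, fun {x} hx => by
    obtain ⟨n, w, hw⟩ := hfac x hx
    exact ⟨n, w, hw⟩⟩

end Groth.Agent.H1Sh
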